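import Groth.Agent.S0207
import Groth.Agent.Lib.ExtZero.Open
import Groth.Agent.Lib.Constructible.FinEtalePushConstr
import Groth.Agent.Lib.ConstrCpt.Closure
import Groth.Agent.Lib.EtDer.Henselian
import Groth.Agent.Lib.AlgSp.Dim
import Groth.Agent.Lib.QDim18.Main
import Groth.Agent.Lib.RedSub.Basic
import Mathlib.AlgebraicGeometry.ZariskisMainTheorem

/-!
# Constant mod `p` coefficients in characteristic `p` along quasi-finite morphisms
-/

set_option autoImplicit false
set_option backward.isDefEq.respectTransparency false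
set_option backward.isDefEq.respectTransparency.types false
set_option linter.style.haveILetI false
set_option linter.all false

universe u

open CategoryTheory CategoryTheory.Limits CategoryTheory.Abelian AlgebraicGeometry Opposite

noncomputable section

namespace GrothLib.CdP18

/-- A cohomology group is zero when the neighbouring ones in a short exact sequence are. -/
theorem subsingleton_H_X₁ {X : Scheme.{u}} {S : ShortComplex (EtCoh.Ab X)} (hS : S.ShortExact) (r : ℕ)
    (h2 : Subsingleton (EtCoh.H X S.X₂ (r + 1))) (h3 : Subsingleton (EtCoh.H X S.X₃ r)) :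
    Subsingleton (EtCoh.H X S.X₁ (r + 1)) := by
  refine ⟨fun x y => ?_⟩
  suffices ∀ z : EtCoh.H X S.X₁ (r + 1), z = 0 by rw [this x, this y]
  intro z
  obtain ⟨w, hw⟩ := Ext.covariant_sequence_exact₁ _ hS z (@Subsingleton.elim _ h2 _ _) rfl
  rw [← hw, @Subsingleton.elim _ h3 w 0, Ext.zero_comp]

theorem subsingleton_H_of_iso {X : Scheme.{u}} {F G : EtCoh.Ab X} (e : F ≅ G) (q : ℕ)
    (h : Subsingleton (EtCoh.H X F q)) : Subsingleton (EtCoh.H X G q) :=
  (GrothLib.EtDer.bijective_comp_mk₀ e q).2.subsingleton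

theorem subsingleton_H_of_isZero {X : Scheme.{u}} {F : EtCoh.Ab X} (hF : IsZero F) (q : ℕ) :
    Subsingleton (EtCoh.H X F q) := ⟨fun a b => by
  rw [← Ext.comp_mk₀_id a, ← Ext.comp_mk₀_id b, hF.eq_of_src (𝟙 F) 0, Ext.mk₀_zero, Ext.comp_zero, Ext.comp_zero]⟩

/-- Constant coefficients vanish above the dimension bound plus one. -/
theorem subsingleton_H_const (p : ℕ) [Fact p.Prime] (X : Scheme.{u}) [CompactSpace X] [QuasiSeparatedSpace X]
    (h0 : (p : Γ(X, ⊤)) = 0) (n : ℕ) (hn : topologicalKrullDim X ≤ n) (q : ℕ) (hq : n + 2 ≤ q) :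
    Subsingleton (EtCoh.H X (EtCoh.const X (ZMod p)) q) := by
  rcases isEmpty_or_nonempty X with hX | ⟨⟨x⟩⟩
  · exact subsingleton_H_of_isZero (GrothLib.QDim18.isZero_of_isEmpty _) q
  obtain ⟨m, hm, hmn⟩ : ∃ m : ℕ, topologicalKrullDim X = m ∧ m ≤ n := by
    have hbot : topologicalKrullDim X ≠ ⊥ := by
      haveI : Nonempty (TopologicalSpace.IrreducibleCloseds X) :=
        ⟨⟨closure {x}, isIrreducible_singleton.closure, isClosed_closure⟩⟩
      exact (bot_lt_iff_ne_bot.1 (lt_of_lt_of_le (WithBot.bot_lt_coe 0) Order.krullDim_nonneg))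
    obtain ⟨e, he⟩ := WithBot.ne_bot_iff_exists.1 hbot
    rw [← he] at hn
    have hn' : e ≤ (n : ℕ∞) := WithBot.coe_le_coe.1 hn
    obtain ⟨m, rfl⟩ : ∃ m : ℕ, e = m := ⟨e.toNat, (ENat.coe_toNat (ne_top_of_le_ne_top (ENat.coe_ne_top n) hn')).symm⟩
    exact ⟨m, he.symm, by exact_mod_cast hn'⟩
  exact Groth.Agent.S0207.result p X h0 m hm q (by omega)

theorem natCast_eq_zero_of_hom {X Y : Scheme.{u}} (f : Y ⟶ X) {p : ℕ} (h0 : (p : Γ(X, ⊤)) = 0) :
    (p : Γ(Y, ⊤)) = 0 := by
  have := congrArg f.appTop.hom h0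
  rwa [map_natCast, map_zero] at this

theorem le_of_lt_succ {x : WithBot ℕ∞} {n : ℕ} (h : x < ((n + 1 : ℕ) : WithBot ℕ∞)) : x ≤ n := by
  induction x using WithBot.recBotCoe with
  | bot => exact bot_le
  | coe a =>
    refine WithBot.coe_le_coe.2 ?_
    have h' : a < ((n + 1 : ℕ) : ℕ∞) := WithBot.coe_lt_coe.1 h
    rw [Nat.cast_add, Nat.cast_one] at h'
    exact (ENat.lt_coe_add_one_iff).1 h'

theorem lt_succ_of_le {x : WithBot ℕ∞} {n : ℕ} (h : x ≤ n) : x < ((n + 1 : ℕ) : WithBot ℕ∞) :=
  lt_of_le_of_lt h (by exact_mod_cast Nat.lt_succ_self n)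

/-- Extension by zero from a dense quasi-compact open. -/
theorem subsingleton_H_extZero_dense (p : ℕ) [Fact p.Prime] {T X : Scheme.{u}} [CompactSpace X]
    [QuasiSeparatedSpace X] [CompactSpace T] (h0 : (p : Γ(X, ⊤)) = 0) (t : T ⟶ X) [IsOpenImmersion t]
    [Etale t] [EtShriek.JCont t] (ht : DenseRange t.base) (n : ℕ) (hn : topologicalKrullDim X ≤ n)
    (q : ℕ) (hq : n + 2 ≤ q) :
    Subsingleton (EtCoh.H X ((EtShriek.extZero t).obj (EtCoh.const T (ZMod p))) q) := by
  let Zc : TopologicalSpace.Closeds X :=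
    ⟨(Set.range t.base)ᶜ, t.isOpenEmbedding.isOpen_range.isClosed_compl⟩
  let I := Scheme.IdealSheafData.vanishingIdeal Zc
  let i := I.subschemeι
  have hr : Set.range i.base = (Set.range t.base)ᶜ := by
    rw [Scheme.IdealSheafData.range_subschemeι, Scheme.IdealSheafData.coe_support_vanishingIdeal]
    rfl
  obtain ⟨w, hS⟩ := GrothLib.ExtZero.shortExact_localization i t (by rw [hr, compl_compl])
    (EtCoh.const X (ZMod p))
  obtain ⟨r, rfl⟩ : ∃ r, q = r + 1 := ⟨q - 1, by omega⟩
  refine subsingleton_H_of_iso ((EtShriek.extZero t).mapIso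
    ((GrothLib.ExtZero.restrIsoPull t).app _ ≪≫ EtCore.pullConst t (ZMod p))) _
    (subsingleton_H_X₁ hS r (subsingleton_H_const p X h0 n hn _ hq) ?_)
  haveI : CompactSpace I.subscheme := QuasiCompact.compactSpace_of_compactSpace i
  haveI : QuasiSeparatedSpace I.subscheme := quasiSeparatedSpace_of_quasiSeparated i
  refine subsingleton_H_of_iso ((EtCoh.push i).mapIso (EtCore.pullConst i (ZMod p)).symm) _
    (GrothLib.EtDer.subsingleton_H_push i _ _ ?_)
  have hlt : topologicalKrullDim I.subscheme < n := by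
    refine GrothLib.QDim18.krullDim_lt i.base i.isClosedEmbedding (fun x hx => ?_) n (lt_succ_of_le hn)
    have hx' : x ∉ Set.range t.base := by rw [hr] at hx; exact hx
    obtain ⟨y, hy, hyx⟩ := GrothLib.ConstrCpt.exists_specializes
      ((isCompact_range t.continuous).isRetrocompact t.isOpenEmbedding.isOpen_range |>.isConstructible
        t.isOpenEmbedding.isOpen_range) (x := x) (ht x)
    exact ⟨y, hyx, fun h => hx' (h ▸ hy)⟩
  rcases n with _ | n
  · haveI := GrothLib.QDim18.isEmpty_of_dim_lt_zero hlt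
    exact subsingleton_H_of_isZero (GrothLib.QDim18.isZero_of_isEmpty _) r
  · exact subsingleton_H_const p _ (natCast_eq_zero_of_hom i h0) n (le_of_lt_succ hlt) r (by omega)

/-- A dense open of a scheme separated over `X`, finite over an open `U` of `X`, is the preimage of `U`. -/
theorem preimage_opensRange_eq {X X' U T : Scheme.{u}} (j : U ⟶ X) [IsOpenImmersion j] (a : T ⟶ U) [IsFinite a]
    (h : X' ⟶ X) [IsSeparated h] (t : T ⟶ X') [IsOpenImmersion t] (hth : t ≫ h = a ≫ j)
    (hdense : DenseRange t.base) : h ⁻¹ᵁ j.opensRange = t.opensRange := by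
  let O : X'.Opens := h ⁻¹ᵁ j.opensRange
  have hsub : Set.range t.base ⊆ (O : Set X') := by
    rintro _ ⟨b, rfl⟩
    refine ⟨a.base b, ?_⟩
    exact ((Scheme.Hom.comp_apply a j b).symm.trans (congr($(hth.symm).base b))).trans (Scheme.Hom.comp_apply t h b)
  let k : T ⟶ O.toScheme := IsOpenImmersion.lift O.ι t (by rw [Scheme.Opens.range_ι]; exact hsub)
  have hk : k ≫ O.ι = t := IsOpenImmersion.lift_fac _ _ _
  let h' : O.toScheme ⟶ U := IsOpenImmersion.lift j (O.ι ≫ h) (by
    rintro _ ⟨x, rfl⟩
    rw [Scheme.Hom.comp_apply]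
    exact x.2)
  have hh' : h' ≫ j = O.ι ≫ h := IsOpenImmersion.lift_fac _ _ _
  haveI : IsSeparated (h' ≫ j) := by rw [hh']; infer_instance
  haveI : IsSeparated h' := IsSeparated.of_comp h' j
  haveI : IsFinite (k ≫ h') := by
    have e : k ≫ h' = a := by rw [← cancel_mono j, Category.assoc, hh', reassoc_of% hk, hth]
    rw [e]; infer_instance
  haveI : IsFinite k := IsFinite.of_comp k h'
  refine TopologicalSpace.Opens.ext (Set.Subset.antisymm (fun x hx => ?_) hsub)
  have hkd : DenseRange k.base := by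
    intro z
    rw [O.ι.isOpenEmbedding.isInducing.closure_eq_preimage_closure_image]
    have e : O.ι.base '' Set.range k.base = Set.range t.base := by
      rw [← Set.range_comp]
      refine congrArg Set.range (funext fun b => ?_)
      exact (Scheme.Hom.comp_apply k O.ι b).symm.trans (congr($(hk).base b))
    change O.ι.base z ∈ closure (O.ι.base '' Set.range k.base)
    rw [e]
    exact hdense _
  obtain ⟨b, hb⟩ : (⟨x, hx⟩ : O.toScheme) ∈ Set.range k.base := by
    rw [← k.isClosedMap.isClosed_range.closure_eq]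
    exact hkd _
  exact ⟨b, (congr($(hk).base b)).symm.trans ((Scheme.Hom.comp_apply k O.ι b).trans (congrArg Subtype.val hb))⟩

/-- The key vanishing for constant coefficients pushed along a finite morphism to an open subscheme. -/
theorem subsingleton_H_key (p : ℕ) [Fact p.Prime] {X U T : Scheme.{u}} [AlgebraicGeometry.IsNoetherian X]
    (h0 : (p : Γ(X, ⊤)) = 0) (j : U ⟶ X) [IsOpenImmersion j] [Etale j] [EtShriek.JCont j]
    (a : T ⟶ U) [IsFinite a] (n : ℕ) (hn : topologicalKrullDim X ≤ n) (q : ℕ) (hq : n + 2 ≤ q) :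
    Subsingleton (EtCoh.H X ((EtShriek.extZero j).obj ((EtCoh.push a).obj (EtCoh.const T (ZMod p)))) q) := by
  haveI : QuasiCompact j := inferInstance
  haveI : QuasiCompact (a ≫ j) := inferInstance
  haveI : CompactSpace U := QuasiCompact.compactSpace_of_compactSpace j
  haveI : CompactSpace T := QuasiCompact.compactSpace_of_compactSpace (a ≫ j)
  haveI : LocallyQuasiFinite (a ≫ j) := inferInstance
  haveI : LocallyOfFiniteType (a ≫ j) := inferInstance
  haveI : IsSeparated (a ≫ j) := inferInstance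
  let h := (a ≫ j).fromNormalization
  let t := (a ≫ j).toNormalization
  have hth : t ≫ h = a ≫ j := (a ≫ j).toNormalization_fromNormalization
  let X' := (a ≫ j).normalization
  haveI : CompactSpace X' := QuasiCompact.compactSpace_of_compactSpace h
  haveI : QuasiSeparatedSpace X' := quasiSeparatedSpace_of_quasiSeparated h
  haveI : EtShriek.JCont t := GrothLib.Constructible.jcont t
  have hdense : DenseRange t.base := t.denseRange
  have hpre : h ⁻¹ᵁ j.opensRange = t.opensRange := preimage_opensRange_eq j a h t hth hdense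
  obtain ⟨e⟩ := GrothLib.ExtZero.nonempty_push_extZero h j t a
    (IsOpenImmersion.isPullback a t j h hth hpre).flip (EtCoh.const T (ZMod p))
  exact subsingleton_H_of_iso e q (GrothLib.EtDer.subsingleton_H_push h _ q
    (subsingleton_H_extZero_dense p (natCast_eq_zero_of_hom h h0) t hdense n
      ((GrothLib.AlgSp.topologicalKrullDim_le_of_isIntegralHom h).trans hn) q hq))

end GrothLib.CdP18
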