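import Groth.Agent.Lib.CI20.Induction
import Groth.Agent.Lib.CI20.Points
import Groth.Agent.Lib.CotTangent.Components
import Groth.Prelude.Def_SecTwist
import Groth.Prelude.Def_PicGrp
import Groth.Agent.Lib.ProjCohom.Corollaries
import Groth.Agent.Lib.ConnH0.Basic
import Groth.Agent.Lib.Chow.Prod

/-!
# The ideal of a complete intersection has no cohomology up to the dimension
-/

set_option autoImplicit false
set_option linter.style.haveILetI false
set_option linter.all false
set_option maxHeartbeats 1000000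
set_option backward.isDefEq.respectTransparency false

universe u

open CategoryTheory CategoryTheory.Limits AlgebraicGeometry Opposite TopologicalSpace
open GrothLib.Cohom (hhMap)

noncomputable section

namespace GrothLib.CdP18

theorem topologicalKrullDim_le_of_components {T : Type u} [TopologicalSpace T] {r : WithBot ℕ∞}
    (h : ∀ Z ∈ irreducibleComponents T, topologicalKrullDim ↥Z ≤ r) : topologicalKrullDim T ≤ r := by
  refine iSup_le fun p => ?_
  obtain ⟨W, hW, hle⟩ : ∃ W ∈ irreducibleComponents T, (p.last : Set T) ⊆ W := by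
    obtain ⟨W, hW, hsub, hmax⟩ := exists_preirreducible (p.last : Set T) p.last.isIrreducible.2
    exact ⟨W, ⟨⟨p.last.isIrreducible.1.mono hsub, hW⟩, fun Z hZ hWZ => (hmax Z hZ.2 hWZ).le⟩, hsub⟩
  have hall : ∀ j, (p j : Set T) ⊆ W := fun j => subset_trans (p.monotone (Fin.le_last j)) hle
  let g : Fin (p.length + 1) → IrreducibleCloseds ↥W := fun j =>
    ⟨Subtype.val ⁻¹' (p j : Set T),
        ⟨by
          obtain ⟨x, hx⟩ := (p j).isIrreducible.1
          exact ⟨⟨x, hall j hx⟩, hx⟩,
        fun u v hu hv hxu hyv => by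
          obtain ⟨u', hu', rfl⟩ := isOpen_induced_iff.1 hu
          obtain ⟨v', hv', rfl⟩ := isOpen_induced_iff.1 hv
          obtain ⟨x, hx, hxu⟩ := hxu
          obtain ⟨y, hy, hyv⟩ := hyv
          obtain ⟨z, hz, hzu, hzv⟩ := (p j).isIrreducible.2 u' v' hu' hv' ⟨x.1, hx, hxu⟩ ⟨y.1, hy, hyv⟩
          exact ⟨⟨z, hall j hz⟩, hz, hzu, hzv⟩⟩, (p j).isClosed.preimage continuous_subtype_val⟩
  let q : LTSeries (IrreducibleCloseds ↥W) :=
    { length := p.length
      toFun := g
      step := fun j => by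
        have hj : p j.castSucc < p j.succ := p.step j
        show g j.castSucc < g j.succ
        refine lt_of_le_of_ne ?_ fun e => hj.ne ?_
        · intro x hx
          exact hj.le hx
        refine IrreducibleCloseds.ext (Set.ext fun x => ⟨fun hx => hj.le hx, fun hx => ?_⟩)
        have hm : (⟨x, hall _ hx⟩ : ↥W) ∈ (g j.succ : Set ↥W) := hx
        rw [← e] at hm
        exact hm }
  exact le_trans (le_iSup (fun s : LTSeries (IrreducibleCloseds ↥W) => (s.length : WithBot ℕ∞)) q) (h W hW)

variable {n : ℕ} {k : Type u} [Field k]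


variable {k : Type u} [Field k] {n r : ℕ} {a : Fin r → ℕ} (G : ∀ l, LefPen.Form n k (a l))

/-- At most `n` forms of positive degree have a common zero in `P^n`. -/
theorem nonempty_ci' (hr : r ≤ n) (ha : ∀ l, 1 ≤ a l) : Nonempty ↥(LefPen.ciIdeal G).subscheme := by
  classical
  let F : Finset (MvPolynomial (Fin (n + 1)) k) := Finset.univ.image fun l => (G l : MvPolynomial (Fin (n + 1)) k)
  let I : Ideal (MvPolynomial (Fin (n + 1)) k) := Ideal.span (Set.range fun l => (G l : MvPolynomial (Fin (n + 1)) k))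
  have hI : I.IsHomogeneous (CohB1.polyGrading n k) :=
    Ideal.homogeneous_span _ _ (by rintro _ ⟨j, rfl⟩; exact ⟨a j, (G j).2⟩)
  have hne : I ≤ ProjDim.mIdeal k n := Ideal.span_le.2 (by
    rintro _ ⟨j, rfl⟩
    rw [SetLike.mem_coe, ProjDim.mem_mIdeal]
    exact MvPolynomial.IsHomogeneous.coeff_eq_zero ((G j).2 : MvPolynomial.IsHomogeneous _ _)
      (by rw [map_zero]; have := ha j; omega))
  have : (ProjDim.mIdeal k n).IsPrime := inferInstance
  obtain ⟨q, hq, -⟩ := Ideal.exists_minimalPrimes_le hne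
  have : (⊥ : Ideal (MvPolynomial (Fin (n + 1)) k)).IsPrime := Ideal.isPrime_bot
  have h := ProjDim.dim_le_dim_add_card (⊥ : Ideal (MvPolynomial (Fin (n + 1)) k)) F (q := q)
    (by rw [bot_sup_eq, show (F : Set (MvPolynomial (Fin (n + 1)) k)) = Set.range _ by
          rw [Finset.coe_image, Finset.coe_univ, Set.image_univ]]; exact hq)
  rw [ringKrullDim_eq_of_ringEquiv (RingEquiv.quotientBot _), MvPolynomial.ringKrullDim_of_isNoetherianRing,
    ringKrullDim_eq_zero_of_field, zero_add] at h
  have := hq.1.1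
  obtain ⟨d, hd⟩ := ProjDim.exists_nat_dim_quotient q
  rw [hd] at h
  have hcard : F.card ≤ r := Finset.card_image_le.trans (by simp)
  have h' : n + 1 ≤ d + F.card := by
    simpa [Nat.card_eq_fintype_card] using (by exact_mod_cast h : Nat.card (Fin (n + 1)) ≤ _)
  obtain ⟨z, -, hz⟩ := ProjDim.exists_point_of_minimalPrime hI hq (by rw [hd]; exact_mod_cast (show 1 ≤ d by omega))
  obtain ⟨e⟩ := CI20.exists_homeo G
  exact ⟨e.symm ⟨z, hz⟩⟩

/-- A smooth complete intersection has the expected dimension. -/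
theorem dim_ci_of_smooth (hr : r ≤ n) (ha : ∀ l, 1 ≤ a l) (d : ℕ)
    [SmoothOfRelativeDimension d ((LefPen.ciIdeal G).subschemeι ≫ CohB1.ProjSpace.toSpec n k)] :
    topologicalKrullDim ↥(LefPen.ciIdeal G).subscheme = (d : WithBot ℕ∞) := by
  let f := (LefPen.ciIdeal G).subschemeι ≫ CohB1.ProjSpace.toSpec n k
  have := Chow.isProper_toSpec n k
  have : IsProper f := inferInstance
  have : CompactSpace ↥(LefPen.ciIdeal G).subscheme := QuasiCompact.compactSpace_of_compactSpace f
  have hc := fun Z hZ => CotTangent.topologicalKrullDim_component_of_smooth f d Z hZ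
  refine le_antisymm (topologicalKrullDim_le_of_components fun Z hZ => (hc Z hZ).le) ?_
  obtain ⟨x⟩ := nonempty_ci' G hr ha
  rw [← hc _ (irreducibleComponent_mem_irreducibleComponents x)]
  exact topologicalKrullDim_subspace_le _ _

variable (ha : ∀ l, 1 ≤ a l) (hr : r ≤ n)
  (hdim : topologicalKrullDim ↥(LefPen.ciIdeal G).subscheme = ((n - r : ℕ) : WithBot ℕ∞))

include ha hr hdim

theorem subsingleton_HH_ideal_ci (h1 : 1 ≤ n - r) (i : ℕ) (hi : i + r ≤ n) :
    Subsingleton (Coh.HH (CohB1.ProjSpace n k) (ClSub.idealMod (LefPen.ciIdeal G)) i) := by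
  let P := CohB1.ProjSpace n k
  let I := LefPen.ciIdeal G
  obtain ⟨e0⟩ := GrTilde.nonempty_structureModule_iso_twist_zero (CohB1.polyGrading n k)
  let e0' : Coh.structureModule P ≅ Twist.twistProjSpace n k 0 := e0
  let ρ : ∀ M : P.Modules, CMReg.Ft M 0 ≅ M := fun M =>
    PicGrp.tensorModIso (Iso.refl M) e0'.symm ≪≫ SecTwist.unitorR M
  obtain ⟨hv, hs⟩ := CI20.vanishing_and_surjective r a G ha (CI20.regForms G hr ha hdim) hr
  have hQ : ∀ p, 0 < p → p < n - r → Subsingleton (Coh.HH P (ClSub.quotMod I) p) := fun p hp hpn => by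
    haveI := hv 0 p hp hpn
    exact (Euler.hhEquiv (A := k) (ρ (ClSub.quotMod I)) p).symm.toEquiv.subsingleton
  have hO : ∀ p, 0 < p → Subsingleton (Coh.HH P (Coh.structureModule P) p) := fun p hp =>
    ProjCohom.subsingleton_HH_structure hp
  have hS := ConnH0.shortExact_ideal I
  haveI : Nonempty I.subscheme := nonempty_ci' G hr ha
  haveI : Nonempty ↥(⊤ : I.subscheme.Opens) := ⟨⟨Classical.arbitrary _, trivial⟩⟩
  haveI : Nontrivial Γ(I.subscheme, ⊤) := LocallyRingedSpace.component_nontrivial I.subscheme.toLocallyRingedSpace ⊤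
  have hb : Function.Injective ((Scheme.ΓSpecIso (CommRingCat.of k)).inv ≫
      (I.subschemeι ≫ CohB1.ProjSpace.toSpec n k).appTop) := RingHom.injective (R := k) _
  have hzero : ∀ z : Coh.HH P (Coh.structureModule P) 0, hhMap k (ClSub.toSubscheme I) 0 z = 0 → z = 0 := by
      intro z hz
      have h := congrArg (ProjCoh.H0top (ClSub.quotMod I)) hz
      rw [NegTwist.H0top_hhMap k (ClSub.toSubscheme I), map_zero] at h
      obtain ⟨c, hc⟩ := ProjDim.exists_eq_toSpec_appTop (n := n) (k := k) (by omega) (ProjCoh.H0top _ z)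
      have h' : I.subschemeι.appTop (ProjCoh.H0top _ z) = 0 := h
      rw [hc] at h'
      have h'' : ((Scheme.ΓSpecIso (CommRingCat.of k)).inv ≫ (I.subschemeι ≫ CohB1.ProjSpace.toSpec n k).appTop)
          ((Scheme.ΓSpecIso (CommRingCat.of k)).hom c) = 0 := by
        rw [CommRingCat.comp_apply, Iso.hom_inv_id_apply, Scheme.Hom.comp_appTop, CommRingCat.comp_apply]
        exact h'
      have hc0 := hb (h''.trans (map_zero _).symm)
      apply (ProjCoh.H0top _).injective
      rw [map_zero, hc]
      rw [← Iso.hom_inv_id_apply (Scheme.ΓSpecIso (CommRingCat.of k)) c, hc0, map_zero, map_zero]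
  have hsurj : Function.Surjective (hhMap k (ClSub.toSubscheme I) 0) := by
    haveI := Chow.isProper_toSpec n k
    haveI : FiniteDimensional k (Coh.HH P (Coh.structureModule P) 0) :=
      Euler.finiteDimensional_HH k (Euler.isCoh_of_isInvertible (Euler.isInvertible_structure (X := P))) 0
    let e1 := Euler.hhEquiv (A := k) (ρ (Coh.structureModule P)) 0
    let e2 := Euler.hhEquiv (A := k) (ρ (ClSub.quotMod I)) 0
    let F := e2.toLinearMap.comp ((hhMap k (CI20.ftMap (ClSub.toSubscheme I) 0) 0).comp e1.symm.toLinearMap)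
    have hF : Function.Surjective F := e2.surjective.comp ((hs (by omega) 0).comp e1.symm.surjective)
    haveI : FiniteDimensional k (Coh.HH P (ClSub.quotMod I) 0) := Module.Finite.of_surjective F hF
    have hL : Function.Injective (hhMap k (ClSub.toSubscheme I) 0) :=
      (injective_iff_map_eq_zero _).2 hzero
    exact (LinearMap.injective_iff_surjective_of_finrank_eq_finrank (le_antisymm
      (LinearMap.finrank_le_finrank_of_injective hL) (LinearMap.finrank_le_finrank_of_surjective hF))).1 hL
  rcases Nat.eq_zero_or_pos i with rfl | hpos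
  · refine ⟨fun x y => ?_⟩
    have hinj : ∀ z, hhMap k (ClSub.idealModι I) 0 z = 0 → z = 0 := fun z hz => by
      haveI := hS.mono_f
      exact NegTwist.injective_hhMap_zero k _ (hz.trans (map_zero _).symm)
    have hall : ∀ z : Coh.HH P (ClSub.idealMod I) 0, z = 0 := fun z => by
      refine hinj z (hzero _ ?_)
      exact (Cohom.exact₂ (A := k) hS 0 _).2 ⟨z, rfl⟩
    rw [hall x, hall y]
  · obtain ⟨j, rfl⟩ : ∃ j, i = j + 1 := ⟨i - 1, by omega⟩
    refine ⟨fun x y => ?_⟩
    have hall : ∀ z : Coh.HH P (ClSub.idealMod I) (j + 1), z = 0 := fun z => by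
      obtain ⟨c, rfl⟩ := (Cohom.exact₁ (A := k) hS j z).1 (@Subsingleton.elim _ (hO (j + 1) hpos) _ _)
      rcases Nat.eq_zero_or_pos j with rfl | hj
      · exact (Cohom.exact₃ (A := k) hS 0 c).2 (hsurj c)
      · rw [@Subsingleton.elim _ (hQ j hj (by omega)) c 0, map_zero]
    rw [hall x, hall y]

end GrothLib.CdP18
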