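import Groth.Agent.Lib.ASProp18.Proper

/-!
# The order of mod `p` cohomology of a proper scheme
-/

set_option autoImplicit false
set_option backward.isDefEq.respectTransparency false
set_option backward.isDefEq.respectTransparency.types false
set_option linter.style.haveILetI false
set_option linter.all false

universe u v

open CategoryTheory CategoryTheory.Limits CategoryTheory.Abelian AlgebraicGeometry Opposite TopologicalSpace

noncomputable section

namespace GrothLib.CdP18

open GrothLib.EtQc13 GrothLib.ASProp18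

variable {k : Type u} [Field k] (p : ℕ) [Fact p.Prime] [CharP k p]

theorem ncard_fixed_le {V : Type v} [AddCommGroup V] [Module k V] [Module.Finite k V]
    (T : V →+ V) (hT : ∀ (c : k) (w : V), T (c • w) = c ^ p • T w) :
    {w : V | T w = w}.ncard ≤ p ^ Module.finrank k V := by
  classical
  obtain ⟨s, hs, hspan, hli⟩ := exists_linearIndependent k {w : V | T w = w}
  haveI : Fintype s := hli.setFinite.fintype
  let P : Polynomial k := Polynomial.X ^ p - Polynomial.X
  have hP : P ≠ 0 := FiniteField.X_pow_card_sub_X_ne_zero k (Fact.out : p.Prime).one_lt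
  let R : Finset k := P.roots.toFinset
  have hR : R.card ≤ p := (Multiset.toFinset_card_le _).trans ((Polynomial.card_roots' P).trans
    (le_of_eq (FiniteField.X_pow_card_sub_X_natDegree_eq k (Fact.out : p.Prime).one_lt)))
  let S : Finset V := (Fintype.piFinset fun _ : s => R).image fun c : s → k => ∑ i, c i • (i : V)
  have hsub : {w : V | T w = w} ⊆ (S : Set V) := by
    intro w hw
    have hwspan : w ∈ Submodule.span k (Set.range ((↑) : s → V)) := by
      rw [Subtype.range_coe, hspan]
      exact Submodule.subset_span hw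
    obtain ⟨c, rfl⟩ := (Submodule.mem_span_range_iff_exists_fun k).1 hwspan
    have hfix : ∑ i : s, (c i ^ p - c i) • (i : V) = 0 := by
      have h : T (∑ i, c i • (i : V)) = ∑ i, c i • (i : V) := hw
      rw [map_sum] at h
      simp only [sub_smul, Finset.sum_sub_distrib]
      rw [sub_eq_zero]
      refine Eq.trans ?_ h
      exact Finset.sum_congr rfl fun j _ => by rw [hT, show T (j : V) = j from hs j.2]
    refine Finset.mem_image.2 ⟨c, Fintype.mem_piFinset.2 fun i => ?_, rfl⟩
    rw [Multiset.mem_toFinset, Polynomial.mem_roots hP]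
    simpa [P, Polynomial.IsRoot] using Fintype.linearIndependent_iff.1 hli _ hfix i
  calc _ ≤ (S : Set V).ncard := Set.ncard_le_ncard hsub S.finite_toSet
    _ = S.card := Set.ncard_coe_finset S
    _ ≤ (Fintype.piFinset fun _ : s => R).card := Finset.card_image_le
    _ = R.card ^ Fintype.card s := by rw [Fintype.card_piFinset, Finset.prod_const, Finset.card_univ]
    _ ≤ p ^ Fintype.card s := Nat.pow_le_pow_left hR _
    _ ≤ p ^ Module.finrank k V := Nat.pow_le_pow_right (Fact.out : p.Prime).pos hli.fintype_card_le_finrank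

variable {X : Scheme.{u}} (f : X ⟶ Spec (CommRingCat.of k)) [IsProper f] (h0 : (p : Γ(X, ⊤)) = 0)

include f in
/-- On each cohomology group of the additive group, Artin–Schreier is `T - 1` for a Frobenius-semilinear `T`. -/
theorem exists_semilinearHH (q : ℕ) :
    letI : X.Over (Spec (CommRingCat.of k)) := ⟨f⟩
    Module.Finite k (Coh.HH X (Coh.structureModule X) q) ∧
    ∃ (E : EtCoh.H X (EtCoh.Ga X) q ≃+ Coh.HH X (Coh.structureModule X) q)
      (T : Coh.HH X (Coh.structureModule X) q →+ Coh.HH X (Coh.structureModule X) q),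
      (∀ (c : k) (v : Coh.HH X (Coh.structureModule X) q), T (c • v) = c ^ p • T v) ∧
      ∀ x, E (Sheaf.H.map (W4c5etcohweilstudent.artinSchreierEndo X p (Fact.out : p.Prime) h0) q x) =
        T (E x) - E x := by
  letI : X.Over (Spec (CommRingCat.of k)) := ⟨f⟩
  haveI : IsProper (X ↘ Spec (CommRingCat.of k)) := ‹IsProper f›
  haveI := GrothLib.Euler.isNoetherian_of_proper (X := X) k
  have hfin : Module.Finite k (Coh.HH X (Coh.structureModule X) q) :=
    Groth.Agent.S0002.result k X _ (GrothLib.Euler.isCoh_of_isInvertible GrothLib.Euler.isInvertible_structure) q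
  obtain ⟨E, hE⟩ := exists_equivariant X q
  let a := W4c5etcohweilstudent.artinSchreierEndo X p (Fact.out : p.Prime) h0
  let T : Coh.HH X (Coh.structureModule X) q →+ Coh.HH X (Coh.structureModule X) q :=
    E.toAddMonoidHom.comp ((Sheaf.H.map (a + 𝟙 _) q).comp E.symm.toAddMonoidHom)
  refine ⟨hfin, E, T, fun c v => ?_, fun x => ?_⟩
  · obtain ⟨x, rfl⟩ := E.surjective v
    let r : Γ(X, ⊤) := Coh.toGlobal f c
    have hr : (Coh.toGlobal f (c ^ p) : Γ(X, ⊤)) = r ^ p := map_pow (Coh.toGlobal f) c p
    change E (Sheaf.H.map (a + 𝟙 _) q (E.symm (Sheaf.H.map (Coh.smulAb (Coh.structureModule X) r) q (E x)))) =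
      Sheaf.H.map (Coh.smulAb (Coh.structureModule X) (Coh.toGlobal f (c ^ p))) q
        (E (Sheaf.H.map (a + 𝟙 _) q (E.symm (E x))))
    rw [← hE, E.symm_apply_apply, E.symm_apply_apply, ← Sheaf.H.map_comp_apply, mulEt_comp_artinSchreier,
      Sheaf.H.map_comp_apply, hE]
    exact (congrArg (fun s => Sheaf.H.map (Coh.smulAb (Coh.structureModule X) s) q _) hr).symm
  · change _ = E (Sheaf.H.map (a + 𝟙 _) q (E.symm (E x))) - E x
    rw [E.symm_apply_apply, Sheaf.H.map_add_apply, Sheaf.H.map_id_apply, map_add, add_sub_cancel_right]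

include f in
/-- The order of mod `p` cohomology. -/
theorem card_H_const_le [IsSepClosed k] (q : ℕ) :
    letI : X.Over (Spec (CommRingCat.of k)) := ⟨f⟩
    Finite (EtCoh.H X (EtCoh.const X (ZMod p)) q) ∧
      Nat.card (EtCoh.H X (EtCoh.const X (ZMod p)) q) ≤ p ^ Module.finrank k (Coh.HH X (Coh.structureModule X) q) := by
  letI : X.Over (Spec (CommRingCat.of k)) := ⟨f⟩
  refine ⟨ASProp18.finite_H_const p f q, ?_⟩
  have h0 := ASProp18.natCast_eq_zero p f
  obtain ⟨ι, hι, hinj⟩ := ASProp18.exists_injective p f h0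
  obtain ⟨hfin, E, T, hT, hE⟩ := exists_semilinearHH p f h0 q
  haveI := hfin
  have hmem : ∀ x, E (Sheaf.H.map ι q x) ∈ {w | T w = w} := fun x => by
    show T (E (Sheaf.H.map ι q x)) = E (Sheaf.H.map ι q x)
    rw [← sub_eq_zero, ← hE, ← Sheaf.H.map_comp_apply, hι]
    exact (congrArg E ((congrArg (fun t => Ext.comp x t (add_zero q)) (Ext.mk₀_zero _ _)).trans
      (Ext.comp_zero ..))).trans (map_zero E)
  refine le_trans ?_ (ncard_fixed_le p T hT)
  rw [← Nat.card_coe_set_eq]
  haveI := (ASProp18.finite_fixed p T hT).to_subtype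
  exact Nat.card_le_card_of_injective (fun x => (⟨E (Sheaf.H.map ι q x), hmem x⟩ : {w | T w = w}))
    fun x y h => hinj q (E.injective (congrArg Subtype.val h))

end GrothLib.CdP18
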