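import Groth.Agent.Lib.ASProp18.GaZar
import Groth.Agent.Lib.FibPow.Pullback
import Groth.Agent.Lib.EtQc13.ZarComp
import Groth.Agent.Lib.Euler.Divisor
import Groth.Agent.Lib.IdealModSec.Basic
import Groth.Agent.Lib.QCoh.ToSheaf

/-!
# The additive group and closed subschemes: surjectivity on top cohomology
-/

set_option autoImplicit false
set_option backward.isDefEq.respectTransparency false
set_option backward.isDefEq.respectTransparency.types false
set_option linter.style.haveILetI false
set_option linter.all false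
set_option maxHeartbeats 1000000

universe u

open CategoryTheory CategoryTheory.Limits CategoryTheory.Abelian AlgebraicGeometry Opposite TopologicalSpace
open GrothLib.EtQc13

noncomputable section

namespace GrothLib.CdP18

variable {X Z : Scheme.{u}} (i : Z ⟶ X)

/-- Restriction of functions, as a map of etale sheaves. -/
def restrGa : EtCoh.Ga X ⟶ (EtCoh.push i).obj (EtCoh.Ga Z) :=
  ⟨{ app := fun U => AddCommGrpCat.uliftFunctor.{u + 1, u}.map
        ((forget₂ CommRingCat.{u} RingCat.{u} ⋙ forget₂ RingCat.{u} AddCommGrpCat.{u}).map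
          (pullback.fst U.unop.hom i).appTop)
     naturality := by
       intro U V g
       ext ⟨x⟩
       refine congrArg ULift.up ?_
       let y : Γ(U.unop.left, ⊤) := x
       change (pullback.fst V.unop.hom i).appTop.hom (g.unop.left.appTop.hom y) =
         ((EtCoh.bc i).map g.unop).left.appTop.hom ((pullback.fst U.unop.hom i).appTop.hom y)
       refine (ConcreteCategory.congr_hom (Scheme.Hom.comp_appTop (pullback.fst V.unop.hom i) g.unop.left) y).symm.trans
         (Eq.trans ?_ (ConcreteCategory.congr_hom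
           (Scheme.Hom.comp_appTop ((EtCoh.bc i).map g.unop).left (pullback.fst U.unop.hom i)) y))
       refine congrArg (fun q : ((EtCoh.bc i).obj V.unop).left ⟶ U.unop.left => q.appTop.hom y) ?_
       exact (pullback.lift_fst _ _ _).symm }⟩

theorem artinSchreier_comp_restrGa (p : ℕ) (hp : p.Prime) (h0 : (p : Γ(X, ⊤)) = 0) (h0' : (p : Γ(Z, ⊤)) = 0) :
    W4c5etcohweilstudent.artinSchreierEndo X p hp h0 ≫ restrGa i =
      restrGa i ≫ (EtCoh.push i).map (W4c5etcohweilstudent.artinSchreierEndo Z p hp h0') := by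
  ext U ⟨x⟩
  refine congrArg ULift.up ?_
  let y : Γ(U.unop.left, ⊤) := x
  change (pullback.fst U.unop.hom i).appTop.hom (y ^ p - y) =
    (pullback.fst U.unop.hom i).appTop.hom y ^ p - (pullback.fst U.unop.hom i).appTop.hom y
  rw [map_sub, map_pow]

/-- Direct images along affine morphisms keep acyclicity. -/
theorem acyclic_push [IsAffineHom i] (G : EtCoh.Ab Z) (hG : (affClass Z).Acyclic G) :
    (affClass X).Acyclic ((EtCoh.push i).obj G) := by
  intro T Y f E hf
  obtain ⟨hT, hY, hs⟩ := hf
  haveI : IsAffine T.left := hT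
  haveI : IsAffine Y.left := hY
  haveI : Surjective f.left := hs
  have hP := fun n => FibPow.isPow_map f (EtCoh.bc i) E n
  let E' : FibPow ((EtCoh.bc i).map f) :=
    { P := fun n => (EtCoh.bc i).obj (E.P n)
      π := fun n j => (EtCoh.bc i).map (E.π n j)
      w := fun n => (hP n).w
      exists_lift := fun n a h => (hP n).exists_lift a h
      hom_ext := fun n l l' h => (hP n).hom_ext l l' h }
  have hδ : ∀ n k, E'.δ n k = (EtCoh.bc i).map (E.δ n k) := fun n k => E'.hom_ext n _ _ fun j => by
    rw [FibPow.δ_π]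
    change _ = (EtCoh.bc i).map (E.δ n k) ≫ (EtCoh.bc i).map (E.π n j)
    rw [← Functor.map_comp, FibPow.δ_π]
  haveI : IsAffineHom (pullback.fst T.hom i) := MorphismProperty.pullback_fst _ _ ‹IsAffineHom i›
  haveI : IsAffineHom (pullback.fst Y.hom i) := MorphismProperty.pullback_fst _ _ ‹IsAffineHom i›
  haveI : IsAffine ((𝟭 Scheme.{u}).obj T.left) := hT
  haveI : IsAffine ((𝟭 Scheme.{u}).obj Y.left) := hY
  have hcov : (affClass Z).Cov ((EtCoh.bc i).map f) :=
    ⟨isAffine_of_isAffineHom (pullback.fst T.hom i),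
      isAffine_of_isAffineHom (pullback.fst Y.hom i),
      MorphismProperty.baseChange_map i ((Scheme.Etale.forget X).map f) ‹Surjective f.left›⟩
  intro n c hc
  have hd : ∀ m (x : ((EtCoh.push i).obj G).obj.obj (op (E.P m))),
      E.d ((EtCoh.push i).obj G).obj m x = E'.d G.obj m x := fun m x => by
    rw [FibPow.d_apply, FibPow.d_apply]
    refine Finset.sum_congr rfl fun k _ => ?_
    rw [hδ]
    rfl
  obtain ⟨b, hb⟩ := hG ((EtCoh.bc i).map f) E' hcov n c (by rw [← hd]; exact hc)
  exact ⟨b, by rw [hd]; exact hb⟩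

variable (X)

/-- The ideal, the functions and the functions on the closed subscheme, on the lifted space. -/
theorem exists_shortExact_resUp (I : X.IdealSheafData) :
    ∃ (m : (liftUp X).obj (Coh.toAb (ClSub.idealMod I)) ⟶ (resUp X).obj (EtCoh.Ga X))
      (w : m ≫ (resUp X).map (restrGa I.subschemeι) = 0), (ShortComplex.mk _ _ w).ShortExact := by
  let i := I.subschemeι
  let m := (liftUp X).map ((SheafOfModules.toSheaf X.ringCatSheaf).map (ClSub.idealModι I)) ≫
    (ASProp18.gaIso X).inv
  have hzero : ∀ (W : X.Opens) (s : Γ(W.toScheme, ⊤)),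
      (pullback.fst W.ι i).appTop.hom s = 0 ↔ i.app W (W.topIso.hom.hom s) = 0 := by
    intro W s
    let e := pullbackSymmetry W.ι i ≪≫ pullbackRestrictIsoRestrict i W
    have h1 : pullback.fst W.ι i = e.hom ≫ (i ∣_ W) := by simp [e]
    have h2 : (pullback.fst W.ι i).appTop.hom s = e.hom.appTop.hom ((i ∣_ W).appTop.hom s) := by
      rw [h1, Scheme.Hom.comp_appTop]
      rfl
    rw [h2, map_eq_zero_iff _ (ConcreteCategory.bijective_of_isIso e.hom.appTop).injective]
    have h3 : (i ∣_ W).appTop ≫ (i ⁻¹ᵁ W).topIso.hom = W.topIso.hom ≫ i.app W := by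
      rw [Scheme.Hom.appTop, morphismRestrict_app, Scheme.Opens.topIso_hom, Scheme.Opens.topIso_hom,
        Category.assoc, i.naturality]
      erw [← Functor.map_comp]
      congr 1
    have h4 := ConcreteCategory.congr_hom h3 s
    refine ⟨fun h => ?_, fun h => ?_⟩
    · exact h4.symm.trans ((congrArg (i ⁻¹ᵁ W).topIso.hom.hom h).trans (map_zero _))
    · exact (map_eq_zero_iff _ (ConcreteCategory.bijective_of_isIso (i ⁻¹ᵁ W).topIso.hom).injective).1 (h4.trans h)
  have hm : ∀ (U : Opens (upTop X)) (z : ((liftUp X).obj (Coh.toAb (ClSub.idealMod I))).obj.obj (op U)),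
      ((downOpens X).obj U).topIso.hom.hom (ULift.down (m.hom.app (op U) z)) =
        IdealModSec.val I ((downOpens X).obj U) (ULift.down z) := fun U z => by
    exact ConcreteCategory.congr_hom (((downOpens X).obj U).topIso.inv_hom_id)
      (IdealModSec.val I ((downOpens X).obj U) (ULift.down z))
  have w : m ≫ (resUp X).map (restrGa i) = 0 := by
    ext U z
    refine ULift.ext _ _ ((hzero ((downOpens X).obj U.unop) _).2 ?_)
    refine Eq.trans (congrArg (i.app _) (hm U.unop z)) ?_
    exact IdealModSec.app_val I _ _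
  haveI := preservesFiniteLimits_upSheaf X
  haveI : PreservesFiniteLimits (resUp X) := comp_preservesFiniteLimits _ _
  haveI hepi : Epi ((resUp X).map (restrGa i)) := by
    haveI : Sheaf.IsLocallySurjective ((resUp X).map (restrGa i)) := ⟨fun {U} s x hx => by
      obtain ⟨W, hW, hxW, hWU⟩ := exists_isAffineOpen_mem_and_subset (X := X) (U := (downOpens X).obj U)
        (x := x.down) hx
      haveI : IsAffine W.toScheme := hW
      let W' : Opens (upTop X) := (upOpens X).obj W
      let k : W' ⟶ U := homOfLE fun p hp => hWU (show p.down ∈ W from hp)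
      obtain ⟨r, hr⟩ := (pullback.fst W.ι i).app_surjective ⊤ (isAffineOpen_top _)
        (ULift.down (((resUp X).obj ((EtCoh.push i).obj (EtCoh.Ga I.subscheme))).obj.map k.op s))
      exact ⟨W', k, ⟨ULift.up r, ULift.ext _ _ hr⟩, hxW⟩⟩
    exact Sheaf.epi_of_isLocallySurjective _
  let g := (resUp X).map (restrGa i)
  let L : (liftUp X).obj (Coh.toAb (ClSub.idealMod I)) ⟶ kernel g := kernel.lift g m w
  have hL : ∀ U : (Opens (upTop X))ᵒᵖ, Function.Bijective (L.hom.app U) := by
    intro U
    let W := (downOpens X).obj U.unop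
    have hLι : ∀ z, (kernel.ι g).hom.app U (L.hom.app U z) = m.hom.app U z := fun z =>
      congr($(congrArg (fun f : _ ⟶ (resUp X).obj (EtCoh.Ga X) => f.hom.app U) (kernel.lift_ι g m w)) z)
    refine ⟨fun a b hab => ?_, fun y => ?_⟩
    · refine ULift.ext _ _ (IdealModSec.val_injective I W ?_)
      rw [← hm U.unop a, ← hm U.unop b]
      exact congrArg (fun t => W.topIso.hom.hom (ULift.down t))
        ((hLι a).symm.trans ((congrArg _ hab).trans (hLι b)))
    · have hy : g.hom.app U ((kernel.ι g).hom.app U y) = 0 :=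
        congr($(congrArg (fun f : _ ⟶ (resUp X).obj ((EtCoh.push i).obj (EtCoh.Ga I.subscheme)) => f.hom.app U)
          (kernel.condition g)) y)
      obtain ⟨k, hk⟩ := (IdealModSec.app_kernel (ClSub.toSubscheme I) W).2 _
        ((hzero W _).1 (congrArg ULift.down hy))
      refine ⟨ULift.up k, (AddCommGrpCat.mono_iff_injective ((kernel.ι g).hom.app U)).1 inferInstance ?_⟩
      rw [hLι]
      refine ULift.ext _ _ ((ConcreteCategory.bijective_of_isIso W.topIso.hom).injective ?_)
      exact (hm U.unop _).trans hk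
  haveI : IsIso L := by
    haveI : ∀ U, IsIso (L.hom.app U) := fun U => (ConcreteCategory.isIso_iff_bijective _).2 (hL U)
    haveI : IsIso ((sheafToPresheaf _ _).map L) := NatIso.isIso_of_isIso_app L.hom
    exact isIso_of_reflects_iso L (sheafToPresheaf _ _)
  haveI : Mono m := by rw [← kernel.lift_ι g m w]; infer_instance
  exact ⟨m, w, { exact := ShortComplex.exact_of_f_is_kernel (ShortComplex.mk m g w) (IsKernel.isoKernel g m (kernelIsKernel g) (asIso L) (kernel.lift_ι g m w)) }⟩

/-- Restriction to a closed subscheme is surjective on cohomology in degrees above the bound of its ideal. -/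
theorem surjective_restrGa (I : X.IdealSheafData) (n : ℕ)
    (hI : Subsingleton (Coh.HH X (ClSub.idealMod I) (n + 1)))
    (v : EtCoh.H X ((EtCoh.push I.subschemeι).obj (EtCoh.Ga I.subscheme)) n) :
    ∃ u : EtCoh.H X (EtCoh.Ga X) n, Ext.comp u (Ext.mk₀ (restrGa I.subschemeι)) (add_zero n) = v := by
  obtain ⟨m, w, hS⟩ := exists_shortExact_resUp X I
  obtain ⟨e, he⟩ := ASProp18.exists_natural_H_resUp X n
  let hF := acyclic_Ga X
  let hF' := acyclic_push I.subschemeι _ (acyclic_Ga I.subscheme)
  obtain ⟨e₁⟩ := nonempty_H_liftUp X (Coh.toAb (ClSub.idealMod I)) (n + 1)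
  haveI : Subsingleton (CohTop.H ((liftUp X).obj (Coh.toAb (ClSub.idealMod I))) (n + 1)) :=
    e₁.symm.toEquiv.subsingleton
  obtain ⟨u, hu⟩ := Ext.covariant_sequence_exact₃ _ hS (e _ hF' v) rfl
    (Subsingleton.elim (α := CohTop.H ((liftUp X).obj (Coh.toAb (ClSub.idealMod I))) (n + 1)) _ _)
  obtain ⟨u', rfl⟩ := (e _ hF).surjective u
  exact ⟨u', (e _ hF').injective ((he _ _ hF hF' (restrGa I.subschemeι) u').trans hu)⟩

end GrothLib.CdP18
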