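import Groth.Agent.Lib.CdP18.Qc
import Groth.Agent.Lib.AcyN18.Main
import Groth.Agent.Lib.EtSite.PushExact

/-!
# Restriction of `p`-torsion constant coefficients to a closed subscheme
-/

set_option autoImplicit false
set_option backward.isDefEq.respectTransparency false
set_option backward.isDefEq.respectTransparency.types false
set_option linter.style.haveILetI false
set_option linter.all false
set_option maxHeartbeats 1000000

universe w v u

open CategoryTheory CategoryTheory.Limits CategoryTheory.Abelian AlgebraicGeometry Opposite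
open GrothLib.EtQc13

noncomputable section

namespace GrothLib.CdP18

section Five

variable {C : Type u} [Category.{v} C] [Abelian C] [HasExt.{w} C] (A : C)

/-- Bijective in degrees at most `N - 2`, injective in degree `N - 1`. -/
def BelowBij (N : ℕ) {F G : C} (φ : F ⟶ G) : Prop :=
  (∀ i, i + 2 ≤ N → ∀ y : Ext.{w} A G i, ∃ x : Ext.{w} A F i, x.comp (Ext.mk₀ φ) (add_zero i) = y) ∧
  (∀ i, i + 1 ≤ N → ∀ x : Ext.{w} A F i, x.comp (Ext.mk₀ φ) (add_zero i) = 0 → x = 0)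

theorem comp_naturality {F G F' G' : C} {a : F ⟶ G} {b : F' ⟶ G'} {s : F ⟶ F'} {t : G ⟶ G'} (h : s ≫ b = a ≫ t)
    {i : ℕ} (x : Ext.{w} A F i) :
    (x.comp (Ext.mk₀ a) (add_zero i)).comp (Ext.mk₀ t) (add_zero i) =
      (x.comp (Ext.mk₀ s) (add_zero i)).comp (Ext.mk₀ b) (add_zero i) := by
  rw [Ext.comp_assoc_of_second_deg_zero, Ext.comp_assoc_of_second_deg_zero, Ext.mk₀_comp_mk₀, Ext.mk₀_comp_mk₀, h]

theorem comp_g_f {S : ShortComplex C} {i : ℕ} (x : Ext.{w} A S.X₁ i) :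
    (x.comp (Ext.mk₀ S.f) (add_zero i)).comp (Ext.mk₀ S.g) (add_zero i) = 0 := by
  rw [Ext.comp_assoc_of_second_deg_zero, Ext.mk₀_comp_mk₀, S.zero, Ext.mk₀_zero, Ext.comp_zero]

variable {A} {S S' : ShortComplex C} (hS : S.ShortExact) (hS' : S'.ShortExact) (τ : S ⟶ S') {N : ℕ}

include hS in
theorem eq_zero_of_comp_f_zero (x : Ext.{w} A S.X₁ 0) (h : x.comp (Ext.mk₀ S.f) (add_zero 0) = 0) : x = 0 := by
  haveI := hS.mono_f
  exact Ext.postcomp_mk₀_injective_of_mono A S.f (h.trans (map_zero ((Ext.mk₀ S.f).postcomp A (add_zero 0))).symm)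

include hS hS' in
/-- The first term from the other two. -/
theorem belowBij_left (h2 : BelowBij A N τ.τ₂) (h3 : BelowBij A N τ.τ₃) : BelowBij A N τ.τ₁ := by
  refine ⟨fun i hi y => ?_, fun i hi x hx => ?_⟩
  · obtain ⟨b, hb⟩ := h2.1 i hi (y.comp (Ext.mk₀ S'.f) (add_zero i))
    have hgb : b.comp (Ext.mk₀ S.g) (add_zero i) = 0 := h3.2 i (by omega) _ (by
      rw [comp_naturality A τ.comm₂₃, hb, comp_g_f])
    obtain ⟨a, ha⟩ := Ext.covariant_sequence_exact₂ _ hS b hgb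
    have h0 : (y - a.comp (Ext.mk₀ τ.τ₁) (add_zero i)).comp (Ext.mk₀ S'.f) (add_zero i) = 0 := by
      rw [sub_eq_add_neg, Ext.add_comp, Ext.neg_comp, ← comp_naturality A τ.comm₁₂, ha, hb, add_neg_cancel]
    match i with
    | 0 => exact ⟨a, (sub_eq_zero.1 (eq_zero_of_comp_f_zero hS' _ h0)).symm⟩
    | j + 1 =>
      obtain ⟨c', hc'⟩ := Ext.covariant_sequence_exact₁ _ hS' _ h0 rfl
      obtain ⟨c, rfl⟩ := h3.1 j (by omega) c'
      refine ⟨a + c.comp hS.extClass rfl, ?_⟩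
      rw [Ext.add_comp, ASProp18.comp_extClass_natural hS hS' τ j c, hc', add_sub_cancel]
  · have hfx : x.comp (Ext.mk₀ S.f) (add_zero i) = 0 := h2.2 i hi _ (by
      rw [comp_naturality A τ.comm₁₂, hx, Ext.zero_comp])
    match i with
    | 0 => exact eq_zero_of_comp_f_zero hS x hfx
    | j + 1 =>
      obtain ⟨c, rfl⟩ := Ext.covariant_sequence_exact₁ _ hS x hfx rfl
      rw [ASProp18.comp_extClass_natural hS hS' τ j c] at hx
      obtain ⟨b', hb'⟩ := Ext.covariant_sequence_exact₃ _ hS' (c.comp (Ext.mk₀ τ.τ₃) (add_zero j)) rfl hx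
      obtain ⟨b, rfl⟩ := h2.1 j (by omega) b'
      have hc : c - b.comp (Ext.mk₀ S.g) (add_zero j) = 0 := h3.2 j (by omega) _ (by
        rw [sub_eq_add_neg, Ext.add_comp, Ext.neg_comp, comp_naturality A τ.comm₂₃, hb', add_neg_cancel])
      rw [sub_eq_zero.1 hc, Ext.comp_assoc_of_second_deg_zero, hS.comp_extClass, Ext.comp_zero]

include hS hS' in
/-- The middle term from the other two. -/
theorem belowBij_middle (h1 : BelowBij A N τ.τ₁) (h3 : BelowBij A N τ.τ₃) : BelowBij A N τ.τ₂ := by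
  refine ⟨fun i hi y => ?_, fun i hi x hx => ?_⟩
  · obtain ⟨c, hc⟩ := h3.1 i hi (y.comp (Ext.mk₀ S'.g) (add_zero i))
    have hδ : c.comp hS.extClass rfl = 0 := h1.2 (i + 1) (by omega) _ (by
      rw [ASProp18.comp_extClass_natural hS hS' τ i c, hc, Ext.comp_assoc_of_second_deg_zero, hS'.comp_extClass,
        Ext.comp_zero])
    obtain ⟨b, hb⟩ := Ext.covariant_sequence_exact₃ _ hS c rfl hδ
    obtain ⟨a', ha'⟩ := Ext.covariant_sequence_exact₂ _ hS' (y - b.comp (Ext.mk₀ τ.τ₂) (add_zero i)) (by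
      rw [sub_eq_add_neg, Ext.add_comp, Ext.neg_comp, ← comp_naturality A τ.comm₂₃, hb, hc, add_neg_cancel])
    obtain ⟨a, rfl⟩ := h1.1 i hi a'
    refine ⟨b + a.comp (Ext.mk₀ S.f) (add_zero i), ?_⟩
    rw [Ext.add_comp, comp_naturality A τ.comm₁₂, ha', add_sub_cancel]
  · have hgx : x.comp (Ext.mk₀ S.g) (add_zero i) = 0 := h3.2 i hi _ (by
      rw [comp_naturality A τ.comm₂₃, hx, Ext.zero_comp])
    obtain ⟨a, rfl⟩ := Ext.covariant_sequence_exact₂ _ hS x hgx
    rw [comp_naturality A τ.comm₁₂] at hx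
    match i with
    | 0 => rw [h1.2 0 hi a (eq_zero_of_comp_f_zero hS' _ hx), Ext.zero_comp]
    | j + 1 =>
      obtain ⟨c', hc'⟩ := Ext.covariant_sequence_exact₁ _ hS' _ hx rfl
      obtain ⟨c, rfl⟩ := h3.1 j (by omega) c'
      have ha : a - c.comp hS.extClass rfl = 0 := h1.2 (j + 1) hi _ (by
        rw [sub_eq_add_neg, Ext.add_comp, Ext.neg_comp, ASProp18.comp_extClass_natural hS hS' τ j c, hc',
          add_neg_cancel])
      rw [sub_eq_zero.1 ha, Ext.comp_assoc_of_third_deg_zero, hS.extClass_comp, Ext.comp_zero]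

end Five

variable {X : Scheme.{u}} (I : X.IdealSheafData)

/-- Restriction of the additive group. -/
theorem belowBij_restrGa (N : ℕ) (hI : ∀ i, i + 1 ≤ N → Subsingleton (Coh.HH X (ClSub.idealMod I) i)) :
    BelowBij (EtCoh.const X ℤ) N (restrGa I.subschemeι) := by
  refine ⟨fun i hi => surjective_restrGa X I i (hI (i + 1) (by omega)), fun i hi x hx => ?_⟩
  obtain ⟨m, w, hS⟩ := exists_shortExact_resUp X I
  obtain ⟨e, he⟩ := ASProp18.exists_natural_H_resUp X i
  let hF := acyclic_Ga X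
  let hF' := acyclic_push I.subschemeι _ (acyclic_Ga I.subscheme)
  obtain ⟨e₁⟩ := nonempty_H_liftUp X (Coh.toAb (ClSub.idealMod I)) i
  haveI := hI i hi
  haveI : Subsingleton (CohTop.H ((liftUp X).obj (Coh.toAb (ClSub.idealMod I))) i) :=
    e₁.symm.toEquiv.subsingleton
  obtain ⟨z, hz⟩ := Ext.covariant_sequence_exact₂ _ hS (e _ hF x)
    (((he _ _ hF hF' (restrGa I.subschemeι) x).symm.trans (congrArg (e _ hF') hx)).trans (map_zero _))
  have h0 := Subsingleton.elim (α := CohTop.H ((liftUp X).obj (Coh.toAb (ClSub.idealMod I))) i) z 0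
  apply (e _ hF).injective
  rw [map_zero, ← hz, h0, Ext.zero_comp]

variable (p : ℕ) [Fact p.Prime]

/-- Restriction of `Z/p`. -/
theorem belowBij_unit (h0 : (p : Γ(X, ⊤)) = 0) (N : ℕ)
    (hI : ∀ i, i + 1 ≤ N → Subsingleton (Coh.HH X (ClSub.idealMod I) i)) :
    BelowBij (EtCoh.const X ℤ) N ((EtCoh.pullPushAdj I.subschemeι).unit.app (EtCoh.const X (ZMod p))) := by
  let i := I.subschemeι
  have h0' : (p : Γ(I.subscheme, ⊤)) = 0 := natCast_eq_zero_of_hom i h0
  obtain ⟨ι, hι, wX, hTX⟩ := exists_iotaAS X p h0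
  obtain ⟨ι', hι', wZ, hTZ⟩ := exists_iotaAS I.subscheme p h0'
  haveI := GrothLib.EtSite.preservesFiniteColimits_push i
  haveI : (EtCoh.push i).Additive := (EtCoh.pullPushAdj i).right_adjoint_additive
  haveI : PreservesFiniteLimits (EtCoh.push i) :=
    ((EtCoh.pullPushAdj i).rightAdjoint_preservesLimits : PreservesLimitsOfSize.{0, 0} _).preservesFiniteLimits
  let e := EtCore.pullConst i (ZMod p)
  let τ : ShortComplex.mk _ _ wX ⟶ (ShortComplex.mk _ _ wZ).map (EtCoh.push i) :=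
    { τ₁ := (EtCoh.pullPushAdj i).unit.app _ ≫ (EtCoh.push i).map e.hom
      τ₂ := restrGa i
      τ₃ := restrGa i
      comm₁₂ := by
        refine Eq.trans ?_ (iota_natural p i ι hι ι' hι').symm
        rw [Category.assoc]
        exact congrArg _ ((EtCoh.push i).map_comp _ _).symm
      comm₂₃ := (artinSchreier_comp_restrGa i p Fact.out h0 h0').symm }
  have hG := belowBij_restrGa I N hI
  have h := belowBij_left hTX (hTZ.map_of_exact (EtCoh.push i)) τ hG hG
  refine ⟨fun n hn y => ?_, fun n hn x hx => h.2 n hn x ?_⟩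
  · obtain ⟨x, hx⟩ := h.1 n hn (y.comp (Ext.mk₀ ((EtCoh.push i).map e.hom)) (add_zero n))
    refine ⟨x, (GrothLib.EtDer.bijective_comp_mk₀ ((EtCoh.push i).mapIso e) n).1 ?_⟩
    refine Eq.trans ?_ hx
    change Ext.comp _ (Ext.mk₀ ((EtCoh.push i).map e.hom)) _ = _
    rw [Ext.comp_assoc_of_second_deg_zero, Ext.mk₀_comp_mk₀]
  · change Ext.comp x (Ext.mk₀ (_ ≫ _)) _ = 0
    rw [← Ext.mk₀_comp_mk₀, ← Ext.comp_assoc_of_second_deg_zero, hx, Ext.zero_comp]

/-- `0 → Z/p → Z/p^(m+1) → Z/p^m → 0`. -/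
theorem exists_shortExact_zmod (m : ℕ) :
    ∃ S : ShortComplex AddCommGrpCat.{u + 1}, S.ShortExact ∧ S.X₁ = AddCommGrpCat.of (ULift.{u + 1} (ZMod p)) ∧
      S.X₂ = AddCommGrpCat.of (ULift.{u + 1} (ZMod (p ^ (m + 1)))) ∧
      S.X₃ = AddCommGrpCat.of (ULift.{u + 1} (ZMod (p ^ m))) := by
  let a : ZMod p →+ ZMod (p ^ (m + 1)) :=
    ZMod.lift p ⟨zmultiplesHom _ ((p ^ m : ℕ) : ZMod (p ^ (m + 1))), by
      change (p : ℤ) • ((p ^ m : ℕ) : ZMod (p ^ (m + 1))) = 0
      rw [natCast_zsmul, nsmul_eq_mul, ← Nat.cast_mul, ← pow_succ', ZMod.natCast_self]⟩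
  let b : ZMod (p ^ (m + 1)) →+ ZMod (p ^ m) :=
    (ZMod.castHom (pow_dvd_pow p (Nat.le_succ m)) (ZMod (p ^ m))).toAddMonoidHom
  haveI : NeZero p := ⟨(Fact.out : p.Prime).ne_zero⟩
  have ha : ∀ n : ℕ, a (n : ZMod p) = ((n * p ^ m : ℕ) : ZMod (p ^ (m + 1))) := fun n => by
    rw [← Int.cast_natCast n]
    refine (ZMod.lift_coe p _ _).trans ?_
    change (n : ℤ) • ((p ^ m : ℕ) : ZMod (p ^ (m + 1))) = _
    rw [natCast_zsmul, nsmul_eq_mul, Nat.cast_mul]
  have hb : ∀ n : ℕ, b (n : ZMod (p ^ (m + 1))) = (n : ZMod (p ^ m)) := fun n => map_natCast (ZMod.castHom (pow_dvd_pow p (Nat.le_succ m)) (ZMod (p ^ m))) n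
  have hab : ∀ x, b (a x) = 0 := fun x => by
    obtain ⟨n, rfl⟩ := ZMod.natCast_zmod_surjective x
    rw [ha, hb, Nat.cast_mul, ZMod.natCast_self, mul_zero]
  let fU : ULift.{u + 1} (ZMod p) →+ ULift.{u + 1} (ZMod (p ^ (m + 1))) :=
    AddEquiv.ulift.symm.toAddMonoidHom.comp (a.comp AddEquiv.ulift.toAddMonoidHom)
  let gU : ULift.{u + 1} (ZMod (p ^ (m + 1))) →+ ULift.{u + 1} (ZMod (p ^ m)) :=
    AddEquiv.ulift.symm.toAddMonoidHom.comp (b.comp AddEquiv.ulift.toAddMonoidHom)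
  refine ⟨ShortComplex.mk (AddCommGrpCat.ofHom fU) (AddCommGrpCat.ofHom gU) (by
    ext ⟨x⟩; exact hab x), ?_, rfl, rfl, rfl⟩
  refine { exact := (ShortComplex.ab_exact_iff _).2 ?_,
           mono_f := (AddCommGrpCat.mono_iff_injective _).2 ?_,
           epi_g := (AddCommGrpCat.epi_iff_surjective _).2 ?_ }
  · rintro ⟨x⟩ hx
    obtain ⟨n, rfl⟩ := ZMod.natCast_zmod_surjective x
    have h1 : (n : ZMod (p ^ m)) = 0 := (hb n).symm.trans (congrArg ULift.down hx)
    obtain ⟨c, rfl⟩ := (ZMod.natCast_eq_zero_iff _ _).1 h1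
    exact ⟨ULift.up (c : ZMod p), congrArg ULift.up ((ha c).trans (by rw [mul_comm]))⟩
  · refine (injective_iff_map_eq_zero fU).2 ?_
    rintro ⟨x⟩ hx
    obtain ⟨n, rfl⟩ := ZMod.natCast_zmod_surjective x
    have h1 : ((n * p ^ m : ℕ) : ZMod (p ^ (m + 1))) = 0 := (ha n).symm.trans (congrArg ULift.down hx)
    rw [ZMod.natCast_eq_zero_iff, pow_succ'] at h1
    exact congrArg ULift.up ((ZMod.natCast_eq_zero_iff _ _).2
      (Nat.dvd_of_mul_dvd_mul_right (pow_pos (Fact.out : p.Prime).pos m) h1))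
  · rintro ⟨x⟩
    obtain ⟨n, rfl⟩ := ZMod.natCast_zmod_surjective x
    exact ⟨ULift.up (n : ZMod (p ^ (m + 1))), congrArg ULift.up (hb n)⟩

/-- Restriction of `Z/p^m`. -/
theorem belowBij_unit_pow (h0 : (p : Γ(X, ⊤)) = 0) (N : ℕ)
    (hI : ∀ i, i + 1 ≤ N → Subsingleton (Coh.HH X (ClSub.idealMod I) i)) (m : ℕ) (hm : 1 ≤ m) :
    BelowBij (EtCoh.const X ℤ) N ((EtCoh.pullPushAdj I.subschemeι).unit.app (EtCoh.const X (ZMod (p ^ m)))) := by
  induction m, hm using Nat.le_induction with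
  | base =>
    suffices ∀ q, q = p → BelowBij (EtCoh.const X ℤ) N
        ((EtCoh.pullPushAdj I.subschemeι).unit.app (EtCoh.const X (ZMod q))) from this _ (pow_one p)
    rintro q rfl
    exact belowBij_unit I q h0 N hI
  | succ m hm ih =>
    obtain ⟨S, hS, e1, e2, e3⟩ := exists_shortExact_zmod p m
    let i := I.subschemeι
    haveI := GrothLib.EtSite.pull_preservesFiniteLimits i
    haveI := GrothLib.EtSite.preservesFiniteColimits_push i
    haveI : (EtCoh.push i).Additive := (EtCoh.pullPushAdj i).right_adjoint_additive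
    haveI : (EtCoh.pull i).Additive := (EtCoh.pullPushAdj i).left_adjoint_additive
    haveI : PreservesFiniteColimits (EtCoh.pull i) :=
      ((EtCoh.pullPushAdj i).leftAdjoint_preservesColimits : PreservesColimitsOfSize.{0, 0} _).preservesFiniteColimits
    haveI : PreservesFiniteLimits (EtCoh.push i) :=
      ((EtCoh.pullPushAdj i).rightAdjoint_preservesLimits : PreservesLimitsOfSize.{0, 0} _).preservesFiniteLimits
    haveI : PreservesFiniteLimits (EtCoh.pull i ⋙ EtCoh.push i) := comp_preservesFiniteLimits _ _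
    haveI : PreservesFiniteColimits (EtCoh.pull i ⋙ EtCoh.push i) := comp_preservesFiniteColimits _ _
    let K := constantSheaf X.smallEtaleTopology AddCommGrpCat.{u + 1}
    haveI : PreservesFiniteColimits K :=
      ((EtCore.constAdj X).leftAdjoint_preservesColimits : PreservesColimitsOfSize.{0, 0} _).preservesFiniteColimits
    haveI : PreservesFiniteLimits K := comp_preservesFiniteLimits _ _
    haveI : K.Additive := Functor.additive_of_preserves_binary_products _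
    have hSK := hS.map_of_exact K
    let u' := (EtCoh.pullPushAdj i).unit
    let τ : S.map K ⟶ (S.map K).map (EtCoh.pull i ⋙ EtCoh.push i) :=
      { τ₁ := u'.app _, τ₂ := u'.app _, τ₃ := u'.app _
        comm₁₂ := (u'.naturality (S.map K).f).symm
        comm₂₃ := (u'.naturality (S.map K).g).symm }
    have h1 : BelowBij (EtCoh.const X ℤ) N (u'.app (K.obj S.X₁)) := by rw [e1]; exact belowBij_unit I p h0 N hI
    have h3 : BelowBij (EtCoh.const X ℤ) N (u'.app (K.obj S.X₃)) := by rw [e3]; exact ih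
    have h2 := belowBij_middle hSK (hSK.map_of_exact (EtCoh.pull i ⋙ EtCoh.push i)) τ h1 h3
    change BelowBij (EtCoh.const X ℤ) N (u'.app (K.obj S.X₂)) at h2
    rw [e2] at h2
    exact h2

/-- In terms of pullback on cohomology. -/
theorem Hpull_belowBij {Z : Scheme.{u}} (i : Z ⟶ X) [IsIntegralHom i] [PreservesFiniteLimits (EtCoh.pull i)]
    (F : EtCoh.Ab X) (N : ℕ) (h : BelowBij (EtCoh.const X ℤ) N ((EtCoh.pullPushAdj i).unit.app F)) :
    (∀ n, n + 2 ≤ N → Function.Bijective (EtCore.Hpull i F n)) ∧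
    (∀ n, n + 1 = N → Function.Injective (EtCore.Hpull i F n)) := by
  haveI := GrothLib.AcyN18.pushAdd i
  let u' := (EtCoh.pullPushAdj i).unit.app F
  have hc : ∀ n, Function.Bijective (fun z : EtCoh.H X ((EtCoh.push i).obj ((EtCoh.pull i).obj F)) n =>
      (Ext.mk₀ (EtCore.pullConst i ℤ).inv).comp
        (GrothLib.ExtAdj.adjMap (EtCoh.pullPushAdj i) (EtCoh.const X ℤ) ((EtCoh.pull i).obj F) n z) (zero_add n)) :=
    fun n => (GrothLib.AcyN18.bijective_preMk₀ (EtCore.pullConst i ℤ).symm n).comp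
      (GrothLib.AcyN18.adjMap_range (EtCoh.pullPushAdj i) (EtCoh.const X ℤ) n ((EtCoh.pull i).obj F)
        fun r _ => GrothLib.EtSite.isZero_Rpush_of_integral i _ (r + 1) r.succ_pos).1
  have hinj : ∀ n, n + 1 ≤ N → Function.Injective (EtCore.Hpull i F n) := fun n hn a b hab => by
    rw [GrothLib.AcyN18.Hpull_eq, GrothLib.AcyN18.Hpull_eq] at hab
    have h' := (hc n).1 hab
    refine sub_eq_zero.1 (h.2 n hn _ ?_)
    rw [sub_eq_add_neg, Ext.add_comp, Ext.neg_comp]
    exact add_neg_eq_zero.2 h'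
  refine ⟨fun n hn => ⟨hinj n (by omega), fun y => ?_⟩, fun n hn => hinj n (by omega)⟩
  obtain ⟨z, rfl⟩ := (hc n).2 y
  obtain ⟨x, rfl⟩ := h.1 n hn z
  exact ⟨x, GrothLib.AcyN18.Hpull_eq i F n x⟩

end GrothLib.CdP18
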