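import Groth.Agent.Lib.CdP18.Piece
import Groth.Agent.Lib.GalCd.Primary
import Groth.Agent.Lib.ConstrCpt.Filtration
import Groth.Agent.S0134
import Groth.Agent.Lib.ConstrCpt.Effaceable
import Groth.Agent.Lib.LocConst.Serre
import Groth.Prelude.Def_Dix

/-!
# `cd_p ≤ dim + 1` in characteristic `p`
-/

set_option autoImplicit false
set_option backward.isDefEq.respectTransparency false
set_option backward.isDefEq.respectTransparency.types false
set_option linter.style.haveILetI false
set_option linter.all false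

universe u

open CategoryTheory CategoryTheory.Limits CategoryTheory.Abelian AlgebraicGeometry Opposite
open GrothLib.EtLimit GrothLib.EtColim

noncomputable section

namespace GrothLib.CdP18

variable {X : Scheme.{u}}

theorem killedBy_of_nsmul {F : EtCoh.Ab X} {p : ℕ} (hp : p • 𝟙 F = 0) : EtCoh.KilledBy p F := fun V s =>
  Eq.trans (map_nsmul (AddMonoidHom.mk' (fun k : F ⟶ F => k.hom.app (op V) s) fun _ _ => rfl) p (𝟙 F)).symm
    (congrArg (fun k : F ⟶ F => k.hom.app (op V) s) hp)

theorem nsmul_eq_zero_of_mono {C : Type*} [Category C] [Preadditive C] {A B : C} (i : A ⟶ B) [Mono i] {m : ℕ}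
    (h : m • 𝟙 B = 0) : m • 𝟙 A = 0 := by
  rw [← cancel_mono i, Preadditive.nsmul_comp, Category.id_comp, zero_comp, ← Category.comp_id i,
    ← Preadditive.comp_nsmul, h, comp_zero]

/-- The cokernel of an endomorphism of a constructible sheaf is constructible. -/
theorem isConstructible_cokernel {D : EtCoh.Ab X} (φ : D ⟶ D) (hD : EtPBC.IsConstructible D) :
    EtPBC.IsConstructible (cokernel φ) := by
  intro V hV
  obtain ⟨k, T, g, himm, hcons, hdisj, hcov, hflc⟩ := hD V hV
  refine ⟨k, T, g, himm, hcons, hdisj, hcov, fun i _ => ?_⟩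
  haveI := GrothLib.EtSite.pull_preservesFiniteLimits (g i)
  haveI : PreservesFiniteColimits (EtCoh.pull (g i)) :=
    ((EtCoh.pullPushAdj (g i)).leftAdjoint_preservesColimits : PreservesColimitsOfSize.{0, 0} _).preservesFiniteColimits
  haveI : (EtCoh.pull (g i)).Additive := (EtCoh.pullPushAdj (g i)).left_adjoint_additive
  let S := ShortComplex.mk φ (cokernel.π φ) (cokernel.condition φ)
  have hS : S.Exact := ShortComplex.exact_of_g_is_cokernel _ (cokernelIsCokernel φ)
  haveI : Epi (S.map (EtCoh.pull (g i))).g := inferInstanceAs (Epi ((EtCoh.pull (g i)).map (cokernel.π φ)))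
  exact GrothLib.LocConst.flc_right (S.map (EtCoh.pull (g i))) (hS.map _) (hflc i) (hflc i)

variable (p : ℕ) [Fact p.Prime] [AlgebraicGeometry.IsNoetherian X] (q : ℕ) (hkey : Key p X q)

include hkey in
theorem subsingleton_constructible (F : EtCoh.Ab X) (hF : EtPBC.IsConstructible F) (hp : p • 𝟙 F = 0) :
    Subsingleton (EtCoh.H X F q) := by
  obtain ⟨N, E, ι, h0E, ⟨eN⟩, hstep⟩ := GrothLib.ConstrCpt.exists_filtration F hF
  have key : ∀ k : Fin (N + 1), p • 𝟙 (E k) = 0 → Subsingleton (EtCoh.H X (E k) q) := by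
    intro k
    induction k using Fin.induction with
    | zero => exact fun _ => subsingleton_H_of_isZero h0E q
    | succ k ih =>
      intro hk
      obtain ⟨U, W, j, hj, c, hc, G, π, hz, -, hG, hS⟩ := hstep k
      haveI := hS.mono_f
      haveI := hS.epi_g
      haveI : EtShriek.JCont j := GrothLib.Constructible.jcont j
      refine subsingleton_H_X₂ hS q (ih (nsmul_eq_zero_of_mono (ι k) hk)) ?_
      have hQ : p • 𝟙 ((phi j c).obj G) = 0 := GrothLib.ConstrCpt.nsmul_id_eq_zero_of_epi π hk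
      have hGp : p • 𝟙 G = 0 := by
        haveI := GrothLib.EtSite.pull_preservesFiniteLimits c
        haveI : (EtCoh.pull c).Additive := (EtCoh.pullPushAdj c).left_adjoint_additive
        haveI := phi_additive j c
        have h1 : (phi j c).map (p • 𝟙 G) = 0 := by
          rw [Functor.map_nsmul, CategoryTheory.Functor.map_id, hQ]
        have h2 : (EtCoh.push c).map (p • 𝟙 G) = 0 := by
          haveI : IsIso ((EtShriek.extZeroAdj j).unit.app ((EtCoh.push c).obj G)) :=
            GrothLib.ExtZero.isIso_unit j _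
          rw [← cancel_mono ((EtShriek.extZeroAdj j).unit.app ((EtCoh.push c).obj G))]
          refine ((EtShriek.extZeroAdj j).unit.naturality ((EtCoh.push c).map (p • 𝟙 G))).trans ?_
          rw [Functor.comp_map]
          change _ ≫ (EtShriek.restrAlong j).map ((phi j c).map (p • 𝟙 G)) = _
          rw [h1, show (EtShriek.restrAlong j).map (0 : (phi j c).obj G ⟶ (phi j c).obj G) = 0 from rfl,
            comp_zero, zero_comp]
        haveI : IsIso ((EtCoh.pullPushAdj c).counit.app G) := GrothLib.EtSite.isIso_counit c G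
        rw [← cancel_epi ((EtCoh.pullPushAdj c).counit.app G)]
        refine ((EtCoh.pullPushAdj c).counit.naturality (p • 𝟙 G)).symm.trans ?_
        rw [Functor.comp_map, h2, Functor.map_zero, zero_comp, comp_zero]
      exact subsingleton_piece p j q hkey ⊤ c (fun _ _ => trivial) G hG hGp
  exact subsingleton_H_of_iso eN q (key _ (nsmul_eq_zero_of_mono eN.hom hp))

include hkey in
theorem H_eq_zero_of_killed (G : EtCoh.Ab X) (hG : p • 𝟙 G = 0) (y : EtCoh.H X G q) : y = 0 := by
  obtain ⟨J, _, _, D, c, hc, hcons, ⟨e⟩⟩ := Groth.Agent.S0134.result X G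
    (GrothLib.ConstrCpt.isTorsion_of_killedBy (Fact.out : p.Prime).ne_zero (killedBy_of_nsmul hG))
  let e' : colimit D ≅ G := (colimit.isColimit D).coconePointUniqueUpToIso hc ≪≫ e
  obtain ⟨i, z, hz⟩ := (gen_and_kill D q).1 (Ext.comp y (Ext.mk₀ e'.inv) (add_zero q))
  let φ : D.obj i ⟶ G := colimit.ι D i ≫ e'.hom
  have hy : Ext.comp z (Ext.mk₀ φ) (add_zero q) = y := by
    have := congrArg (fun w => Ext.comp w (Ext.mk₀ e'.hom) (add_zero q)) hz
    simp only [Ext.comp_assoc_of_third_deg_zero, Ext.mk₀_comp_mk₀, Iso.inv_hom_id, Ext.comp_mk₀_id] at this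
    exact this
  let π := cokernel.π (p • 𝟙 (D.obj i))
  let ψ : cokernel (p • 𝟙 (D.obj i)) ⟶ G := cokernel.desc _ φ (by
    rw [Preadditive.nsmul_comp, Category.id_comp, ← Category.comp_id φ, ← Preadditive.comp_nsmul, hG, comp_zero])
  have hQ : p • 𝟙 (cokernel (p • 𝟙 (D.obj i))) = 0 := by
    rw [← cancel_epi π, Preadditive.comp_nsmul, Category.comp_id, comp_zero]
    have := cokernel.condition (p • 𝟙 (D.obj i))
    rwa [Preadditive.nsmul_comp, Category.id_comp] at this
  have h := subsingleton_constructible p q hkey _ (isConstructible_cokernel _ (hcons i)) hQ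
  rw [← hy, show φ = π ≫ ψ from (cokernel.π_desc _ _ _).symm, ← Ext.mk₀_comp_mk₀,
    ← Ext.comp_assoc_of_third_deg_zero, @Subsingleton.elim _ h (Ext.comp z (Ext.mk₀ π) (add_zero q)) 0, Ext.zero_comp]

include hkey in
theorem H_eq_zero (F : EtCoh.Ab X) (hF : Dix.IsPrimaryTorsion p F) (x : EtCoh.H X F q) : x = 0 := by
  have htors : EtCoh.IsTorsion F := fun V s v => by
    obtain ⟨V', g, hv, k, hk⟩ := hF V s v
    exact ⟨V', g, hv, isOfFinAddOrder_iff_nsmul_eq_zero.2 ⟨p ^ k, pow_pos (Fact.out : p.Prime).pos k, hk⟩⟩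
  obtain ⟨G, i, y, N, hN, hG, rfl⟩ := GrothLib.GalCd.exists_killed_preimage htors q x
  obtain ⟨v, M, hM, hNM⟩ := Nat.exists_eq_pow_mul_and_not_dvd hN p (Fact.out : p.Prime).ne_one
  let G' := Abelian.image i
  let π : G ⟶ G' := Abelian.factorThruImage i
  have hG' : N • 𝟙 G' = 0 := GrothLib.ConstrCpt.nsmul_id_eq_zero_of_epi π hG
  have hG'' : p ^ v • 𝟙 G' = 0 := by
    refine ObjectProperty.hom_ext _ (NatTrans.ext (funext fun V => AddCommGrpCat.hom_ext (AddMonoidHom.ext fun s => ?_)))
    have hs : N • s = 0 := killedBy_of_nsmul hG' V.unop s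
    refine Eq.trans (map_nsmul (AddMonoidHom.mk' (fun k : G' ⟶ G' => k.hom.app V s) fun _ _ => rfl) (p ^ v) (𝟙 G')) ?_
    change p ^ v • s = 0
    refine GrothLib.EtSite.section_eq_zero_of_germs G' V.unop _ fun Ω _ _ ξ t => ?_
    let ιG : G' ⟶ F := Abelian.image.ι i
    let b := ιG.hom.app V s
    obtain ⟨V', g, ⟨w, hw⟩, k, hk⟩ := hF V.unop b (t.left.base (default : Spec (CommRingCat.of Ω)))
    obtain ⟨t', ht'⟩ := GrothLib.LocConst.exists_fib_lift ξ g t w hw
    rw [← ht', ← GrothLib.EtSite.germ_map, map_nsmul]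
    have hk' : p ^ k • G'.obj.map g.op s = 0 := by
      apply GrothLib.EtTrace21.injective_app ιG V'
      rw [map_nsmul, map_zero]
      exact (congrArg (p ^ k • ·) (NatTrans.naturality_apply ιG.hom g.op s)).trans hk
    have hN' : N • G'.obj.map g.op s = 0 := by rw [← map_nsmul, hs, map_zero]
    have hgcd : p ^ v • G'.obj.map g.op s = 0 := by
      rw [← addOrderOf_dvd_iff_nsmul_eq_zero] at hk' hN' ⊢
      obtain ⟨r, -, hr⟩ := (Nat.dvd_prime_pow (Fact.out : p.Prime)).1 hk'
      rw [hr, hNM] at hN'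
      rw [hr]
      exact (Nat.Coprime.dvd_of_dvd_mul_right
        (Nat.Coprime.pow_left r ((Nat.Prime.coprime_iff_not_dvd Fact.out).2 hM)) hN')
    rw [hgcd, map_zero]
  have h0' : Ext.comp y (Ext.mk₀ π) (add_zero q) = 0 :=
    GrothLib.GalCd.H_eq_zero_of_killed_pow p q (H_eq_zero_of_killed p q hkey) v G' hG'' _
  rw [show i = π ≫ Abelian.image.ι i from (Abelian.image.fac i).symm, ← Ext.mk₀_comp_mk₀,
    ← Ext.comp_assoc_of_third_deg_zero, h0', Ext.zero_comp]

/-- The bound from the key vanishing. -/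
theorem cohDimLEAt_of_key (d : ℕ) (hk : ∀ q, d < q → Key p X q) : Dix.CohDimLEAt X p d := fun F hF q hq =>
  ⟨fun a b => (H_eq_zero p q (hk q hq) F hF a).trans (H_eq_zero p q (hk q hq) F hF b).symm⟩

/-- `cd_p ≤ dim + 1`. -/
theorem cohDimLEAt (h0 : (p : Γ(X, ⊤)) = 0) (n : ℕ) (hn : topologicalKrullDim X ≤ n) :
    Dix.CohDimLEAt X p (n + 1) :=
  cohDimLEAt_of_key p (n + 1) fun q hq U T j _ _ _ a _ => subsingleton_H_key p h0 j a n hn q (by omega)

end GrothLib.CdP18
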