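import Groth.Agent.Lib.ASProp18.Proper
import Groth.Agent.Lib.EtDer.MV
import Groth.Agent.Lib.Spectral25.Restriction
import Groth.Agent.Lib.CdP18.Const

/-!
# Artin-Schreier on the top cohomology of an open subscheme of a proper scheme
-/

set_option autoImplicit false
set_option backward.isDefEq.respectTransparency false
set_option backward.isDefEq.respectTransparency.types false
set_option linter.style.haveILetI false
set_option linter.all false

universe u

open CategoryTheory CategoryTheory.Limits CategoryTheory.Abelian AlgebraicGeometry Opposite TopologicalSpace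
open GrothLib.EtQc13 GrothLib.EtDer

noncomputable section

namespace GrothLib.CdP18

variable (X : Scheme.{u})

/-- The exactness of restriction to the opens on acyclic sheaves. -/
theorem resUp_inj_ses (A : EtCoh.Ab X) (hA : (affClass X).Acyclic A) :
    (affClass X).Acyclic (SheafCoh.injSES A).X₃ ∧ ((SheafCoh.injSES A).map (resUp X)).ShortExact := by
  haveI := preservesFiniteLimits_upSheaf X
  haveI : PreservesFiniteLimits (resUp X) := comp_preservesFiniteLimits _ _
  have hS := SheafCoh.injSES_shortExact A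
  refine ⟨(affClass X).acyclic_X₃ hS hA ((affClass X).acyclic_of_injective _), shortExact_map_of_epi _ hS ?_⟩
  haveI : Sheaf.IsLocallySurjective ((resUp X).map (SheafCoh.injSES A).g) := ⟨fun {U} s x hx => by
    obtain ⟨W, hW, hxW, hWU⟩ := exists_isAffineOpen_mem_and_subset (X := X) (U := (downOpens X).obj U)
      (x := x.down) hx
    haveI : IsAffine W.toScheme := hW
    let W' : Opens (upTop X) := (upOpens X).obj W
    let i : W' ⟶ U := homOfLE fun p hp => hWU (show p.down ∈ W from hp)
    obtain ⟨r, hr⟩ := (affClass X).surjective hS hA (Y := (EtZar.zarToEt X).obj W)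
      (show IsAffine W.toScheme from hW) (((resUp X).obj (SheafCoh.injSES A).X₃).obj.map i.op s)
    exact ⟨W', i, ⟨r, hr⟩, hxW⟩⟩
  exact Sheaf.epi_of_isLocallySurjective _

/-- Natural comparisons with cohomology on the opens for any corepresenting object. -/
theorem exists_natural_ext_resUp (A : EtCoh.Ab X) (U : Opens (upTop X))
    (ψ : ∀ F : EtCoh.Ab X, (A ⟶ F) ≃+ ((resUp X).obj F).obj.obj (op U))
    (hψ : ∀ {F F' : EtCoh.Ab X} (g : F ⟶ F') (a : A ⟶ F), ψ F' (a ≫ g) = ((resUp X).map g).hom.app (op U) (ψ F a))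
    (n : ℕ) :
    ∃ e : ∀ F : EtCoh.Ab X, (affClass X).Acyclic F →
        (Ext.{u + 1} A F n ≃+ Ext.{u + 1} (SheafCoh.freeY (Opens.grothendieckTopology (upTop X)) U) ((resUp X).obj F) n),
      ∀ (F F' : EtCoh.Ab X) (hF : (affClass X).Acyclic F) (hF' : (affClass X).Acyclic F') (g : F ⟶ F')
        (x : Ext.{u + 1} A F n), e F' hF' (x.comp (Ext.mk₀ g) (add_zero n)) =
          (e F hF x).comp (Ext.mk₀ ((resUp X).map g)) (add_zero n) := by
  haveI := preservesFiniteLimits_upSheaf X
  haveI : PreservesFiniteLimits (resUp X) := comp_preservesFiniteLimits _ _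
  haveI : (resUp X).Additive := Functor.additive_of_preserves_binary_products _
  obtain ⟨e, he, -⟩ := GrothLib.ASProp18.exists_natEquiv (resUp X) A
    (SheafCoh.freeY (Opens.grothendieckTopology (upTop X)) U)
    (fun F => (ψ F).trans (SheafCoh.homFreeY ((resUp X).obj F) U).symm) (affClass X).Acyclic
    (fun {F F'} g a => by
      apply (SheafCoh.homFreeY ((resUp X).obj F') U).injective
      simp only [AddEquiv.trans_apply, AddEquiv.apply_symm_apply]
      rw [hψ]
      exact (congrArg (((resUp X).map g).hom.app (op U))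
        ((SheafCoh.homFreeY ((resUp X).obj F) U).apply_symm_apply _)).symm)
    (resUp_inj_ses X)
    (fun I hI m => by
      haveI := EtDer.injective_resZar I
      haveI : Injective ((resUp X).obj I) := injective_upSheaf X _
      exact Ext.subsingleton_of_injective _ _ _) n
  exact ⟨e, he⟩

/-- Sections over an open are maps from its extension by zero. -/
theorem exists_homAW (W : X.Opens) :
    ∃ ψ : ∀ F : EtCoh.Ab X, (MV.AW W ⟶ F) ≃+ ((resUp X).obj F).obj.obj (op ((upOpens X).obj W)),
      ∀ {F F' : EtCoh.Ab X} (g : F ⟶ F') (a : MV.AW W ⟶ F),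
        ψ F' (a ≫ g) = ((resUp X).map g).hom.app (op ((upOpens X).obj W)) (ψ F a) := by
  haveI : (EtShriek.extZero W.ι).Additive := (EtShriek.extZeroAdj W.ι).left_adjoint_additive
  let i : (EtShriek.compEtale W.ι).obj (EtCoh.top W.toScheme) ≅ (EtZar.zarToEt X).obj W :=
    MorphismProperty.Over.isoMk (Iso.refl _) ((Category.id_comp _).trans (Category.id_comp _).symm)
  let s : ∀ F : EtCoh.Ab X, (EtCoh.const W.toScheme ℤ ⟶ (EtShriek.restrAlong W.ι).obj F) ≃+
      ((EtShriek.restrAlong W.ι).obj F).obj.obj (op (EtCoh.top W.toScheme)) :=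
    fun F => Ext.addEquiv₀.{u + 1}.symm.trans (Sheaf.H.equiv₀ _ (EtCore.topIsTerminal W.toScheme))
  refine ⟨fun F => (((EtShriek.extZeroAdj W.ι).homAddEquiv _ F).trans (s F)).trans
    (F.obj.mapIso i.symm.op).addCommGroupIsoToAddEquiv, fun {F F'} g a => ?_⟩
  simp only [AddEquiv.trans_apply]
  have h1 : (EtShriek.extZeroAdj W.ι).homAddEquiv _ F' (a ≫ g) =
      (EtShriek.extZeroAdj W.ι).homAddEquiv _ F a ≫ (EtShriek.restrAlong W.ι).map g :=
    (EtShriek.extZeroAdj W.ι).homEquiv_naturality_right a g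
  have h2 : ∀ b : EtCoh.const W.toScheme ℤ ⟶ (EtShriek.restrAlong W.ι).obj F,
      s F' (b ≫ (EtShriek.restrAlong W.ι).map g) =
        ((EtShriek.restrAlong W.ι).map g).hom.app (op (EtCoh.top W.toScheme)) (s F b) := fun b => by
    obtain ⟨z, rfl⟩ := Ext.addEquiv₀.{u + 1}.surjective b
    simp only [s, AddEquiv.trans_apply]
    rw [← Sheaf.H.addEquiv₀_map, AddEquiv.symm_apply_apply, AddEquiv.symm_apply_apply, ← Sheaf.H.equiv₀_naturality]
  rw [h1, h2]
  exact (NatTrans.naturality_apply g.hom i.symm.hom.op _).symm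

/-- Global sections are maps from the constant sheaf. -/
theorem exists_homZ :
    ∃ ψ : ∀ F : EtCoh.Ab X, (EtCoh.const X ℤ ⟶ F) ≃+ ((resUp X).obj F).obj.obj (op ⊤),
      ∀ {F F' : EtCoh.Ab X} (g : F ⟶ F') (a : EtCoh.const X ℤ ⟶ F),
        ψ F' (a ≫ g) = ((resUp X).map g).hom.app (op ⊤) (ψ F a) := by
  haveI hι : IsIso (⊤ : X.Opens).ι := inferInstanceAs (IsIso X.topIso.hom)
  let hT : IsTerminal ((EtZar.zarToEt X).obj ⊤) :=
    (EtCore.topIsTerminal X).ofIso
      (MorphismProperty.Over.isoMk (@asIso _ _ _ _ _ hι).symm (@IsIso.inv_hom_id _ _ _ _ (⊤ : X.Opens).ι hι))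
  refine ⟨fun F => Ext.addEquiv₀.{u + 1}.symm.trans (Sheaf.H.equiv₀ F hT), fun {F F'} g a => ?_⟩
  obtain ⟨z, rfl⟩ := Ext.addEquiv₀.{u + 1}.surjective a
  simp only [AddEquiv.trans_apply]
  rw [← Sheaf.H.addEquiv₀_map, AddEquiv.symm_apply_apply, AddEquiv.symm_apply_apply]
  exact (Sheaf.H.equiv₀_naturality (hT := hT) (f := g) z).symm

variable {X}

/-- Restriction is surjective from the dimension on. -/
theorem surjective_freeYMap {T : TopCat.{u}} [SpectralSpace T] (F : CohTop.Ab T) (d : ℕ)
    (hd : topologicalKrullDim T ≤ d) (U : Opens T) (hU : IsCompact (U : Set T))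
    (e : Ext.{u} (SheafCoh.freeY (Opens.grothendieckTopology T) U) F d) :
    ∃ e' : Ext.{u} (SheafCoh.freeY (Opens.grothendieckTopology T) ⊤) F d,
      (Ext.mk₀ (SheafCoh.freeYMap (Opens.grothendieckTopology T) (homOfLE (le_top : U ≤ ⊤)))).comp e' (zero_add d) = e := by
  obtain ⟨x, hx⟩ := GrothLib.Spectral25.surjective_res F d hd U hU
    ((SheafCoh.HUext (J := Opens.grothendieckTopology T) F d U).symm e)
  refine ⟨SheafCoh.HUext (J := Opens.grothendieckTopology T) F d ⊤ x, ?_⟩
  rw [← (SheafCoh.HUext (J := Opens.grothendieckTopology T) F d U).apply_symm_apply e, ← hx]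
  exact (SheafCoh.res_eq (J := Opens.grothendieckTopology T) F d (homOfLE (le_top : U ≤ ⊤)) x).symm

variable {k : Type u} [Field k] [IsSepClosed k] (p : ℕ) [Fact p.Prime] [CharP k p]
  (f : X ⟶ Spec (CommRingCat.of k)) [IsProper f]

include f in
/-- Mod `p` cohomology of an open of a proper scheme vanishes above the dimension. -/
theorem subsingleton_H_open (W : X.Opens) (n : ℕ) (hn : topologicalKrullDim X ≤ n) (q : ℕ) (hq : n < q) :
    Subsingleton (EtCoh.H W.toScheme (EtCoh.const W.toScheme (ZMod p)) q) := by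
  have h0 := GrothLib.ASProp18.natCast_eq_zero p f
  haveI : CompactSpace X := QuasiCompact.compactSpace_of_compactSpace f
  haveI : IsLocallyNoetherian X := LocallyOfFiniteType.isLocallyNoetherian f
  haveI : AlgebraicGeometry.IsNoetherian X := ⟨⟩
  haveI : SpectralSpace X := {}
  haveI hsp : SpectralSpace (upTop X) :=
    { toCompactSpace := Homeomorph.ulift.symm.compactSpace
      toT0Space := Homeomorph.ulift.symm.t0Space
      toQuasiSober := Homeomorph.ulift.isClosedEmbedding.quasiSober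
      toQuasiSeparatedSpace := (QuasiSeparatedSpace.of_isOpenEmbedding
        (f := Homeomorph.ulift) Homeomorph.ulift.isOpenEmbedding)
      toPrespectralSpace := PrespectralSpace.of_isClosedEmbedding _ Homeomorph.ulift.isClosedEmbedding }
  have hdim : topologicalKrullDim (upTop X) ≤ n :=
    (le_of_eq (IsHomeomorph.topologicalKrullDim_eq _ Homeomorph.ulift.isHomeomorph)).trans hn
  let U : Opens (upTop X) := (upOpens X).obj W
  have hUc : IsCompact (U : Set (upTop X)) := Homeomorph.ulift.isCompact_preimage.2 (NoetherianSpace.isCompact _)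
  let a := W4c5etcohweilstudent.artinSchreierEndo X p (Fact.out : p.Prime) h0
  let R := (resUp X).obj (EtCoh.Ga X)
  obtain ⟨ψT, hψT⟩ := exists_homZ X
  obtain ⟨ψW, hψW⟩ := exists_homAW X W
  -- surjectivity on the open
  have hsurj : ∀ r, n ≤ r → ∀ y : Ext.{u + 1} (MV.AW W) (EtCoh.Ga X) r,
      (n < r → y = 0) ∧ ∃ z : Ext.{u + 1} (MV.AW W) (EtCoh.Ga X) r, z.comp (Ext.mk₀ a) (add_zero r) = y := by
    intro r hr y
    obtain ⟨eT, heT⟩ := exists_natural_ext_resUp X _ ⊤ ψT hψT r
    obtain ⟨eW, heW⟩ := exists_natural_ext_resUp X _ U ψW hψW r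
    have hdim' : topologicalKrullDim (upTop X) ≤ r := hdim.trans (by exact_mod_cast hr)
    obtain ⟨v, hv⟩ := surjective_freeYMap R r hdim' U hUc (eW _ (acyclic_Ga X) y)
    obtain ⟨x, rfl⟩ := (eT _ (acyclic_Ga X)).surjective v
    refine ⟨fun hlt => ?_, ?_⟩
    · haveI : Subsingleton (EtCoh.H X (EtCoh.Ga X) r) := by
        obtain ⟨e⟩ := GrothLib.EtQc13.nonempty_H_resUp X (EtCoh.Ga X) (acyclic_Ga X) r
        haveI := GrothLib.Spectral25.subsingleton_H_of_krullDim_le R n hdim r hlt
        exact e.toEquiv.subsingleton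
      apply (eW _ (acyclic_Ga X)).injective
      rw [map_zero, ← hv, Subsingleton.elim (α := EtCoh.H X (EtCoh.Ga X) r) x 0, map_zero, Ext.comp_zero]
    · obtain ⟨x', hx'⟩ := GrothLib.ASProp18.surjective_artinSchreier p f h0 r x
      have hx'' : x'.comp (Ext.mk₀ a) (add_zero r) = x := hx'
      refine ⟨(eW _ (acyclic_Ga X)).symm ((Ext.mk₀ (SheafCoh.freeYMap _ (homOfLE (le_top : U ≤ ⊤)))).comp
        (eT _ (acyclic_Ga X) x') (zero_add r)), ?_⟩
      apply (eW _ (acyclic_Ga X)).injective
      rw [heW _ _ (acyclic_Ga X) (acyclic_Ga X), AddEquiv.apply_symm_apply, Ext.comp_assoc_of_third_deg_zero,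
        ← heT _ _ (acyclic_Ga X) (acyclic_Ga X), hx'']
      exact hv
  -- the sequence
  obtain ⟨e⟩ := GrothLib.EtQc13.exists_iso_const X p h0
  haveI : Epi a := Groth.Agent.S18415.result p Fact.out h0
  let T := ShortComplex.mk (kernel.ι a) a (kernel.condition a)
  have hT : T.ShortExact := { exact := T.exact_of_f_is_kernel (kernelIsKernel a) }
  obtain ⟨r, rfl⟩ : ∃ r, q = r + 1 := ⟨q - 1, by omega⟩
  have hker : ∀ z : Ext.{u + 1} (MV.AW W) (kernel a) (r + 1), z = 0 := by
    intro z
    obtain ⟨w, hw⟩ := Ext.covariant_sequence_exact₁ _ hT z ((hsurj (r + 1) (by omega) _).1 (by omega)) rfl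
    obtain ⟨w', rfl⟩ := (hsurj r (by omega) w).2
    rw [← hw, Ext.comp_assoc_of_second_deg_zero]
    exact (congrArg (fun t => Ext.comp w' t rfl) hT.comp_extClass).trans (Ext.comp_zero ..)
  haveI : Subsingleton (Ext.{u + 1} (MV.AW W) (kernel a) (r + 1)) := ⟨fun x y => (hker x).trans (hker y).symm⟩
  haveI h1 : Subsingleton (EtCoh.H W.toScheme ((EtCoh.pull W.ι).obj (kernel a)) (r + 1)) :=
    (MV.psi (kernel a) W (r + 1)).symm.toEquiv.subsingleton
  exact subsingleton_H_of_iso ((EtCoh.pull W.ι).mapIso e.symm ≪≫ EtCore.pullConst W.ι (ZMod p)) _ h1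

end GrothLib.CdP18
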