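import Groth.Agent.Lib.CdP18.Const
import Groth.Agent.Lib.PFilt18.Main
import Groth.Agent.Lib.EtTrace21.Basic
import Groth.Agent.S0651

/-!
# Vanishing for extensions by zero of finite locally constant sheaves killed by `p`
-/

set_option autoImplicit false
set_option backward.isDefEq.respectTransparency false
set_option backward.isDefEq.respectTransparency.types false
set_option linter.style.haveILetI false
set_option linter.all false

universe u

open CategoryTheory CategoryTheory.Limits CategoryTheory.Abelian AlgebraicGeometry Opposite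

noncomputable section

namespace GrothLib.CdP18

theorem subsingleton_H_X₂ {X : Scheme.{u}} {S : ShortComplex (EtCoh.Ab X)} (hS : S.ShortExact) (q : ℕ)
    (h1 : Subsingleton (EtCoh.H X S.X₁ q)) (h3 : Subsingleton (EtCoh.H X S.X₃ q)) :
    Subsingleton (EtCoh.H X S.X₂ q) := by
  refine ⟨fun x y => ?_⟩
  suffices ∀ z : EtCoh.H X S.X₂ q, z = 0 by rw [this x, this y]
  intro z
  obtain ⟨w, hw⟩ := Ext.covariant_sequence_exact₂ _ hS z (@Subsingleton.elim _ h3 _ _)
  rw [← hw, @Subsingleton.elim _ h1 w 0, Ext.zero_comp]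

section Phi

variable {X U W : Scheme.{u}} (j : U ⟶ X) [IsOpenImmersion j] [Etale j] [EtShriek.JCont j]
  (c : W ⟶ U) [IsIntegralHom c]

/-- Push forward, then extend by zero. -/
abbrev phi : EtCoh.Ab W ⥤ EtCoh.Ab X := EtCoh.push c ⋙ EtShriek.extZero j

theorem phi_exact : PreservesFiniteLimits (phi j c) ∧ PreservesFiniteColimits (phi j c) ∧ (phi j c).Additive := by
  haveI := GrothLib.EtSite.preservesFiniteColimits_push c
  haveI : PreservesFiniteLimits (EtCoh.push c) :=
    ((EtCoh.pullPushAdj c).rightAdjoint_preservesLimits : PreservesLimitsOfSize.{0, 0} _).preservesFiniteLimits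
  haveI := GrothLib.ExtZero.preservesFiniteLimits_extZero j
  haveI : PreservesFiniteColimits (EtShriek.extZero j) :=
    ((EtShriek.extZeroAdj j).leftAdjoint_preservesColimits : PreservesColimitsOfSize.{0, 0} _).preservesFiniteColimits
  haveI : PreservesFiniteLimits (phi j c) := comp_preservesFiniteLimits _ _
  exact ⟨inferInstance, comp_preservesFiniteColimits _ _, Functor.additive_of_preserves_binary_products _⟩

theorem phi_additive : (phi j c).Additive := (phi_exact j c).2.2

theorem phi_shortExact {S : ShortComplex (EtCoh.Ab W)} (hS : S.ShortExact) :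
    haveI := phi_additive j c
    (S.map (phi j c)).ShortExact := by
  obtain ⟨h1, h2, h3⟩ := phi_exact j c
  exact hS.map_of_exact (phi j c)

theorem phi_nsmul {A B : EtCoh.Ab W} (f : A ⟶ B) (m : ℕ) : (phi j c).map (m • f) = m • (phi j c).map f := by
  haveI := phi_additive j c
  exact Functor.map_nsmul _

end Phi

/-- The vanishing for constant coefficients pushed along finite morphisms to opens. -/
def Key (p : ℕ) (X : Scheme.{u}) (q : ℕ) : Prop :=
  ∀ {U T : Scheme.{u}} (j : U ⟶ X) [IsOpenImmersion j] [Etale j] [EtShriek.JCont j] (a : T ⟶ U) [IsFinite a],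
    Subsingleton (EtCoh.H X ((EtShriek.extZero j).obj ((EtCoh.push a).obj (EtCoh.const T (ZMod p)))) q)

variable (p : ℕ) [Fact p.Prime] {X U : Scheme.{u}} [AlgebraicGeometry.IsNoetherian X]
  (j : U ⟶ X) [IsOpenImmersion j] [Etale j] [EtShriek.JCont j] (q : ℕ) (hkey : Key p X q)

include hkey in
/-- The connected case. -/
theorem subsingleton_connected {W : Scheme.{u}} [ConnectedSpace W] (c : W ⟶ U) [IsFinite c] (G : EtCoh.Ab W)
    (hG : EtCoh.IsFiniteLocallyConstant G) (hp : p • 𝟙 G = 0) :
    Subsingleton (EtCoh.H X ((phi j c).obj G) q) := by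
  have hkill : EtCoh.KilledBy p G := fun V s => by
    have h := congrArg (fun k : G ⟶ G => k.hom.app (op V) s) hp
    refine Eq.trans ?_ h
    exact (map_nsmul (AddMonoidHom.mk' (fun k : G ⟶ G => k.hom.app (op V) s) fun _ _ => rfl) p (𝟙 G)).symm
  obtain ⟨Q, d, hd, hcard, m, Gs, φ, hz, ⟨em⟩, hsteps⟩ :=
    GrothLib.PFilt18.exists_prime_to_ell_filtration W p G hG hkill
  haveI : IsFinite Q.hom := Q.prop.1
  haveI : Etale Q.hom := Q.prop.2
  let Qet : W.Etale := Scheme.Etale.mk Q.hom
  haveI : EtShriek.JCont Q.hom := GrothLib.LocConst.jCont_hom Qet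
  let G' := (EtShriek.restrAlong Q.hom).obj G
  -- the push forward of the pull back
  have hchain : ∀ i, i ≤ m → Subsingleton (EtCoh.H X ((phi j (Q.hom ≫ c)).obj (Gs i)) q) := by
    haveI := phi_additive j (Q.hom ≫ c)
    intro i
    induction i with
    | zero => exact fun _ => subsingleton_H_of_isZero ((phi j (Q.hom ≫ c)).map_isZero hz) q
    | succ i ih =>
      intro hi
      obtain ⟨hmono, ⟨e⟩⟩ := hsteps i (by omega)
      haveI := hmono
      have hT : (ShortComplex.mk (φ i) (cokernel.π (φ i)) (cokernel.condition _)).ShortExact :=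
        { exact := ShortComplex.exact_of_g_is_cokernel _ (cokernelIsCokernel _) }
      refine subsingleton_H_X₂ (phi_shortExact j (Q.hom ≫ c) hT) q (ih (by omega)) ?_
      exact subsingleton_H_of_iso ((phi j (Q.hom ≫ c)).mapIso e.symm) q
        (hkey j (Q.hom ≫ c))
  have hpush : Subsingleton (EtCoh.H X ((phi j c).obj ((EtCoh.push Q.hom).obj G')) q) :=
    subsingleton_H_of_iso (((EtShriek.extZero j).mapIso ((EtCoh.pushComp c Q.hom).app _)).symm) q
      (subsingleton_H_of_iso ((phi j (Q.hom ≫ c)).mapIso (em ≪≫ ((GrothLib.ExtZero.restrIsoPull Q.hom).app G).symm)) q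
        (hchain m le_rfl))
  -- a retraction
  let e : ℕ := ((d : ZMod p)⁻¹).val
  have hed : ∃ k, d * e = k * p + 1 := by
    have hd0 : (d : ZMod p) ≠ 0 := fun h => by
      rw [ZMod.natCast_eq_zero_iff] at h
      exact (Nat.Prime.coprime_iff_not_dvd Fact.out).1 hd h
    have h1 : ((d * e : ℕ) : ZMod p) = ((1 : ℕ) : ZMod p) := by
      rw [Nat.cast_mul, ZMod.natCast_zmod_val, Nat.cast_one, mul_inv_cancel₀ hd0]
    have h2 : (d * e) % p = 1 := by
      have := (ZMod.natCast_eq_natCast_iff' _ _ _).1 h1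
      rwa [Nat.one_mod_eq_one.2 (Fact.out : p.Prime).ne_one] at this
    refine ⟨d * e / p, ?_⟩
    conv_lhs => rw [← Nat.div_add_mod (d * e) p, h2]
    rw [mul_comm p]
  obtain ⟨k, hk⟩ := hed
  let i₀ := GrothLib.EtTrace21.unitPush Q.hom G
  let r := e • GrothLib.EtTrace21.tr Q.hom G
  have hir : i₀ ≫ r = 𝟙 G := by
    rw [Preadditive.comp_nsmul, GrothLib.EtTrace21.unit_tr Q.hom G d (fun Ω _ _ ξ => hcard Ω ξ), ← mul_nsmul,
      hk, add_nsmul, one_nsmul, mul_nsmul', hp, nsmul_zero, zero_add]
  have hh := congrArg (phi j c).map hir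
  rw [Functor.map_comp, CategoryTheory.Functor.map_id] at hh
  refine ⟨fun x y => ?_⟩
  suffices ∀ z : EtCoh.H X ((phi j c).obj G) q, z = 0 by rw [this x, this y]
  intro z
  rw [← Ext.comp_mk₀_id z, ← hh, ← Ext.mk₀_comp_mk₀, ← Ext.comp_assoc_of_third_deg_zero,
    @Subsingleton.elim _ hpush (Ext.comp z (Ext.mk₀ ((phi j c).map i₀)) (add_zero q)) 0, Ext.zero_comp]

include hkey in
/-- Finite locally constant sheaves on closed subschemes of opens. -/
theorem subsingleton_piece (S : TopologicalSpace.Closeds U) : ∀ {W : Scheme.{u}} (c : W ⟶ U) [IsClosedImmersion c],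
    Set.range c.base ⊆ (S : Set U) → ∀ (G : EtCoh.Ab W), EtCoh.IsFiniteLocallyConstant G → p • 𝟙 G = 0 →
      Subsingleton (EtCoh.H X ((phi j c).obj G) q) := by
  haveI : QuasiCompact j := inferInstance
  haveI : CompactSpace U := QuasiCompact.compactSpace_of_compactSpace j
  haveI : IsLocallyNoetherian U := isLocallyNoetherian_of_isOpenImmersion j
  haveI : AlgebraicGeometry.IsNoetherian U := ⟨⟩
  induction S using WellFoundedLT.induction with
  | ind S ih =>
    intro W c _ hS G hG hp
    haveI := phi_additive j c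
    rcases isEmpty_or_nonempty W with hW | hW
    · exact subsingleton_H_of_isZero ((phi j c).map_isZero (GrothLib.QDim18.isZero_of_isEmpty G)) q
    by_cases hc : PreconnectedSpace W
    · haveI : ConnectedSpace W := { toPreconnectedSpace := hc, toNonempty := hW }
      exact subsingleton_connected p j q hkey c G hG hp
    obtain ⟨D, hD, hne, hne'⟩ : ∃ D : Set W, IsClopen D ∧ D ≠ ∅ ∧ D ≠ Set.univ := by
      rw [preconnectedSpace_iff_clopen] at hc
      push Not at hc
      obtain ⟨D, hD, h1, h2⟩ := hc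
      first
        | exact ⟨D, hD, h1, h2⟩
        | exact ⟨D, hD, h1.ne_empty, h2⟩
    have part : ∀ (E : Set W) (hE : IsClopen E), E ≠ Set.univ → ∀ (v : W.Opens), (v : Set W) = E →
        Subsingleton (EtCoh.H X ((phi j c).obj ((EtCoh.push v.ι).obj ((EtCoh.pull v.ι).obj G))) q) := by
      intro E hE hEne v hv
      haveI : IsClosedImmersion v.ι := IsClosedImmersion.of_isPreimmersion v.ι (by
        rw [Scheme.Opens.range_ι, hv]; exact hE.isClosed)
      let S' : TopologicalSpace.Closeds U :=
        ⟨c.base '' E, c.isClosedEmbedding.isClosedMap _ hE.isClosed⟩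
      have hlt : S' < S := by
        refine lt_of_le_of_ne (fun z hz => ?_) fun h => hEne (Set.eq_univ_of_forall fun w => ?_)
        · obtain ⟨w, -, rfl⟩ := hz
          exact hS ⟨w, rfl⟩
        · have : c.base w ∈ (S' : Set U) := by rw [h]; exact hS ⟨w, rfl⟩
          obtain ⟨w', hw', he⟩ := this
          exact c.isClosedEmbedding.injective he ▸ hw'
      have hK : p • 𝟙 ((EtCoh.pull v.ι).obj G) = 0 := by
        haveI : (EtCoh.pull v.ι).Additive := (EtCoh.pullPushAdj v.ι).left_adjoint_additive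
        rw [← CategoryTheory.Functor.map_id, ← Functor.map_nsmul, hp, Functor.map_zero]
      refine subsingleton_H_of_iso ((EtShriek.extZero j).mapIso ((EtCoh.pushComp c v.ι).app _)).symm q
        (ih S' hlt (v.ι ≫ c) ?_ _ (GrothLib.LocConst.isFiniteLocallyConstant_pull v.ι G hG) hK)
      rintro _ ⟨x, rfl⟩
      exact ⟨x.1, hv ▸ x.2, (Scheme.Hom.comp_apply v.ι c x).symm⟩
    let v : W.Opens := ⟨D, hD.isOpen⟩
    let w : W.Opens := ⟨Dᶜ, hD.compl.isOpen⟩
    haveI : IsClosedImmersion v.ι := IsClosedImmersion.of_isPreimmersion v.ι (by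
      rw [Scheme.Opens.range_ι]; exact hD.isClosed)
    haveI : IsClosedImmersion w.ι := IsClosedImmersion.of_isPreimmersion w.ι (by
      rw [Scheme.Opens.range_ι]; exact hD.compl.isClosed)
    haveI : EtShriek.JCont v.ι := GrothLib.Constructible.jcont v.ι
    obtain ⟨z, hT⟩ := GrothLib.ExtZero.shortExact_localization w.ι v.ι (by
      rw [Scheme.Opens.range_ι, Scheme.Opens.range_ι]
      exact (compl_compl D).symm) G
    haveI : IsIso ((EtCoh.pullPushAdj v.ι).counit.app ((EtCoh.pull v.ι).obj G)) :=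
      (Groth.Agent.S0651.result v.ι _).1
    obtain ⟨ev⟩ := GrothLib.ExtZero.nonempty_iso_extZero v.ι ((EtShriek.restrAlong v.ι).obj G)
      ((EtCoh.push v.ι).obj ((EtCoh.pull v.ι).obj G))
      ((GrothLib.ExtZero.restrIsoPull v.ι).app _ ≪≫ asIso ((EtCoh.pullPushAdj v.ι).counit.app _) ≪≫
        ((GrothLib.ExtZero.restrIsoPull v.ι).app G).symm)
      (fun Ω _ _ ξ hξ => GrothLib.EtSite.stalk_push_isZero v.ι _ ξ hξ)
    refine subsingleton_H_X₂ (phi_shortExact j c hT) q
      (subsingleton_H_of_iso ((phi j c).mapIso ev) q (part D hD hne' v rfl)) ?_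
    exact part Dᶜ hD.compl (fun h => hne (Set.compl_univ_iff.1 h)) w rfl

end GrothLib.CdP18
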