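import Groth.Agent.Lib.CdP18.GaClosed
import Groth.Agent.Lib.CdP18.Main
import Groth.Agent.Lib.EtQc13.ASConst
import Groth.Agent.Lib.FormalFn.Push
import Groth.Agent.Lib.QCoh.Qcqs
import Groth.Agent.Lib.H1Sheaf6.Conormal

/-!
# `cd_p ≤ cd_qc + 1` in characteristic `p`
-/

set_option autoImplicit false
set_option backward.isDefEq.respectTransparency false
set_option backward.isDefEq.respectTransparency.types false
set_option linter.style.haveILetI false
set_option linter.all false
set_option maxHeartbeats 1000000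

universe u

open CategoryTheory CategoryTheory.Limits CategoryTheory.Abelian AlgebraicGeometry Opposite
open GrothLib.EtQc13 GrothLib.EtSite GrothLib.EtColim

noncomputable section

namespace GrothLib.CdP18

/-- The Artin-Schreier sequence with constant kernel, normalized on global sections. -/
theorem exists_iotaAS (X : Scheme.{u}) (p : ℕ) [Fact p.Prime] (h0 : (p : Γ(X, ⊤)) = 0) :
    ∃ ι : EtCoh.const X (ZMod p) ⟶ EtCoh.Ga X,
      (∀ c : ULift.{u + 1} (ZMod p), (EtCore.constAdj X).homEquiv _ _ ι c =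
        c.down.val • (ULift.up 1 : ULift.{u + 1} Γ(X, ⊤))) ∧
      ∃ w : ι ≫ W4c5etcohweilstudent.artinSchreierEndo X p (Fact.out : p.Prime) h0 = 0,
        (ShortComplex.mk _ _ w).ShortExact := by
  let hp : p.Prime := Fact.out
  let a := W4c5etcohweilstudent.artinSchreierEndo X p hp h0
  let one₀ : EtCoh.sect (EtCoh.Ga X) (EtCoh.top X) := (ULift.up 1 : ULift.{u + 1} Γ(X, ⊤))
  have hone : p • one₀ = 0 := ULift.ext _ _ (by
    change p • (1 : Γ(X, ⊤)) = 0
    rw [nsmul_one]
    exact h0)
  let φ : ZMod p →+ EtCoh.sect (EtCoh.Ga X) (EtCoh.top X) :=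
    ZMod.lift p ⟨zmultiplesHom _ one₀, by
      change (p : ℤ) • one₀ = 0
      rw [natCast_zsmul]; exact hone⟩
  have hφ : ∀ n : ZMod p, φ n = n.val • one₀ := fun n => by
    conv_lhs => rw [← ZMod.natCast_zmod_val n, ← Int.cast_natCast]
    exact (ZMod.lift_coe p _ _).trans (natCast_zsmul one₀ _)
  let g₀ : AddCommGrpCat.of (ULift.{u + 1} (ZMod p)) ⟶ (EtCore.gsec X).obj (EtCoh.Ga X) :=
    AddCommGrpCat.ofHom (φ.comp AddEquiv.ulift.toAddMonoidHom)
  let ι : EtCoh.const X (ZMod p) ⟶ EtCoh.Ga X := ((EtCore.constAdj X).homEquiv _ _).symm g₀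
  have ha1 : a.hom.app (op (EtCoh.top X)) one₀ = 0 := ULift.ext _ _ (by
    change (1 : Γ(X, ⊤)) ^ p - 1 = 0
    rw [one_pow, sub_self])
  have hιa : ι ≫ a = 0 := by
    refine ((EtCore.constAdj X).homEquiv _ _).injective ?_
    rw [Adjunction.homEquiv_naturality_right, Equiv.apply_symm_apply]
    rw [Adjunction.homEquiv_unit, CategoryTheory.Functor.map_zero, comp_zero]
    refine AddCommGrpCat.hom_ext (AddMonoidHom.ext fun c => ?_)
    change a.hom.app (op (EtCoh.top X)) (φ c.down) = 0
    rw [hφ, map_nsmul, ha1, smul_zero]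
  let ι' : EtCoh.const X (ZMod p) ⟶ kernel a := kernel.lift a ι hιa
  let A₀ := AddCommGrpCat.of (ULift.{u + 1} (ZMod p))
  have hι : ∀ (c : ULift.{u + 1} (ZMod p)),
      ι.hom.app (op (EtCoh.top X)) (GrothLib.EtDer.cst A₀ _ c) = c.down.val • one₀ := fun c => by
    rw [← hφ, ← GrothLib.EtDer.cst_top]
    have e0 : g₀ = (EtCore.constAdj X).homEquiv _ _ ι := (Equiv.apply_symm_apply _ _).symm
    change _ = g₀ c
    rw [e0, Adjunction.homEquiv_unit]
    rfl
  haveI : IsIso ι' := isIso_of_stalksAC ι' fun Ω _ _ ξ => by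
    refine ⟨?_, fun y => ?_⟩
    · rw [injective_iff_map_eq_zero]
      intro y hy
      obtain ⟨c, rfl⟩ := (GrothLib.LocConst.bijective_germ_const ξ _).2 y
      have hy' := congrArg ((EtCoh.stalk ξ).map (kernel.ι a)) hy
      rw [map_zero, ← ConcreteCategory.comp_apply, ← CategoryTheory.Functor.map_comp, kernel.lift_ι] at hy'
      have key : (EtCoh.stalk ξ).map ι (((EtCore.constAdj X).unit.app A₀ ≫
          germ ξ _ (GrothLib.LocConst.topFib ξ)) c) =
          (ULift.down c).val • germ ξ (EtCoh.Ga X) (GrothLib.LocConst.topFib ξ) one₀ := by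
        rw [ConcreteCategory.comp_apply, GrothLib.EtDer.cst_top]
        refine (stalk_map_germ ξ ι _ _).trans ?_
        rw [hι, map_nsmul]
      rw [key] at hy'
      have hne : germ ξ (EtCoh.Ga X) (GrothLib.LocConst.topFib ξ) one₀ ≠ 0 := fun h => by
        obtain ⟨V, g, v, -, hg⟩ := eq_zero_nhd ξ (EtCoh.Ga X) _ one₀ h
        have h1 : g.left.appTop.hom (1 : Γ(X, ⊤)) = 0 := congrArg ULift.down hg
        have h2 : (1 : Γ(V.left, ⊤)) = 0 := (map_one g.left.appTop.hom).symm.trans h1
        exact one_ne_zero ((map_one _).symm.trans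
          ((congrArg (V.left.presheaf.germ ⊤ v trivial).hom h2).trans (map_zero _)))
      have hord : addOrderOf (germ ξ (EtCoh.Ga X) (GrothLib.LocConst.topFib ξ) one₀) = p :=
        addOrderOf_eq_prime (by rw [← map_nsmul, hone, map_zero]) hne
      have := addOrderOf_dvd_of_nsmul_eq_zero hy'
      rw [hord] at this
      have hc : (ULift.down c).val = 0 := Nat.eq_zero_of_dvd_of_lt this (ZMod.val_lt _)
      rw [show c = 0 from ULift.ext _ _ ((ZMod.val_eq_zero _).1 hc)]
      exact map_zero _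
    · obtain ⟨V, t, s, rfl⟩ := exists_germ ξ _ y
      let pt : Spec (CommRingCat.of Ω) := default
      let v : V.left := t.left.base pt
      let b : Γ(V.left, ⊤) := ULift.down (show ULift.{u + 1} Γ(V.left, ⊤) from
        (kernel.ι a).hom.app (op V) s)
      have hb : b ^ p - b = 0 := by
        have e : a.hom.app (op V) ((kernel.ι a).hom.app (op V) s) = 0 :=
          congr($(congrArg (fun f : kernel a ⟶ EtCoh.Ga X => f.hom.app (op V)) (kernel.condition a)) s)
        exact congrArg ULift.down e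
      have h0V : (p : Γ(V.left, ⊤)) = 0 := by
        have := congrArg V.hom.appTop.hom h0
        rwa [map_natCast, map_zero] at this
      let gv := (V.left.presheaf.germ ⊤ v trivial).hom
      obtain ⟨n, hn⟩ := exists_natCast_eq_of_pow_eq (L := V.left.presheaf.stalk v) hp
        (by rw [← map_natCast gv, h0V, map_zero]) (b := gv b)
        (by rw [← map_pow, sub_eq_zero.1 hb])
      obtain ⟨W₀, hvW, i₁, i₂, hW⟩ := V.left.presheaf.germ_eq (U := ⊤) (V := ⊤) v trivial trivial b (n : Γ(V.left, ⊤))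
        (by rw [map_natCast]; exact hn.symm)
      let W : V.left.Opens := W₀
      haveI : Etale V.hom := V.prop
      let V' : X.Etale := MorphismProperty.Over.mk _ (W.ι ≫ V.hom) (inferInstanceAs (Etale (W.ι ≫ V.hom)))
      let m : V' ⟶ V := MorphismProperty.Over.homMk W.ι rfl trivial
      have hrange : Set.range t.left ⊆ Set.range W.ι := by
        rintro _ ⟨z, rfl⟩
        rw [Scheme.Opens.range_ι]
        change t.left z ∈ W
        rw [show z = pt from Subsingleton.elim (α := PrimeSpectrum Ω) _ _]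
        exact hvW
      let t' : (Scheme.pointSmallEtale ξ).fiber.obj V' :=
        Over.homMk (IsOpenImmersion.lift W.ι t.left hrange) (by
          show _ ≫ W.ι ≫ V.hom = ξ
          rw [IsOpenImmersion.lift_fac_assoc]
          exact Over.w t)
      have hm : (Scheme.pointSmallEtale ξ).fiber.map m t' = t :=
        Over.OverMorphism.ext (IsOpenImmersion.lift_fac _ _ _)
      rw [← hm, ← germ_map]
      refine ⟨germ ξ _ t' (GrothLib.EtDer.cst A₀ V' (ULift.up (n : ZMod p))), ?_⟩
      rw [stalk_map_germ]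
      refine congrArg _ (injective_app_of_mono (kernel.ι a) _ ?_)
      have e1 : (kernel.ι a).hom.app (op V') (ι'.hom.app (op V') (GrothLib.EtDer.cst A₀ V' (ULift.up (n : ZMod p)))) =
          ι.hom.app (op V') (GrothLib.EtDer.cst A₀ V' (ULift.up (n : ZMod p))) := by
        conv_rhs => rw [← kernel.lift_ι a ι hιa]
        rfl
      refine e1.trans ?_
      let q : V' ⟶ EtCoh.top X := (EtCore.topIsTerminal X).from _
      rw [← GrothLib.EtDer.map_cst A₀ q (ULift.up (n : ZMod p))]
      refine (NatTrans.naturality_apply ι.hom q.op _).trans ?_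
      rw [hι]
      refine (map_nsmul ((EtCoh.Ga X).obj.map q.op).hom _ one₀).trans ?_
      refine Eq.trans ?_ (NatTrans.naturality_apply (kernel.ι a).hom m.op s).symm
      refine ULift.ext _ _ ?_
      change (n : ZMod p).val • q.left.appTop.hom (1 : Γ(X, ⊤)) = m.left.appTop.hom b
      rw [map_one, nsmul_one]
      have hres : m.left.appTop.hom b = (n : Γ(V'.left, ⊤)) := by
        have hW' : ((V.left.presheaf.map i₁.op).hom b) = (V.left.presheaf.map i₂.op).hom (n : Γ(V.left, ⊤)) := hW
        rw [map_natCast] at hW'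
        refine W.topIso.commRingCatIsoToRingEquiv.injective ?_
        rw [map_natCast]
        refine Eq.trans ?_ hW'
        change (W.ι.appTop ≫ W.topIso.hom).hom b = _
        have hWι : W.ι.appTop ≫ W.topIso.hom = V.left.presheaf.map (homOfLE le_top).op := by
          rw [Scheme.Opens.topIso_hom, Scheme.Hom.appTop, Scheme.Opens.ι_app]
          erw [← V.left.presheaf.map_comp]
          rfl
        rw [hWι]
        rfl
      rw [hres, ZMod.val_natCast]
      have h0W : (p : Γ(V'.left, ⊤)) = 0 := by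
        have := congrArg W.ι.appTop.hom h0V
        rwa [map_natCast, map_zero] at this
      conv_rhs => rw [← Nat.div_add_mod n p, Nat.cast_add, Nat.cast_mul, h0W, zero_mul, zero_add]
  haveI : Epi a := Groth.Agent.S18415.result p hp h0
  haveI : Mono ι := by rw [← kernel.lift_ι a ι hιa]; infer_instance
  refine ⟨ι, fun c => ?_, hιa, { exact := ShortComplex.exact_of_f_is_kernel (ShortComplex.mk ι a hιa) (IsKernel.isoKernel a ι (kernelIsKernel a) (asIso ι') (kernel.lift_ι a ι hιa)) }⟩
  rw [Equiv.apply_symm_apply]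
  exact hφ c.down


theorem hom_const_ext {X : Scheme.{u}} {p : ℕ} {F : EtCoh.Ab X} (f g : EtCoh.const X (ZMod p) ⟶ F)
    (h : ∀ c, (EtCore.constAdj X).homEquiv _ _ f c = (EtCore.constAdj X).homEquiv _ _ g c) : f = g :=
  ((EtCore.constAdj X).homEquiv _ _).injective (ConcreteCategory.hom_ext _ _ h)

variable (p : ℕ) [Fact p.Prime]

/-- The Artin-Schreier sequences are compatible with restriction to a closed subscheme. -/
theorem iota_natural {X Z : Scheme.{u}} (i : Z ⟶ X)
    (ι : EtCoh.const X (ZMod p) ⟶ EtCoh.Ga X)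
    (hι : ∀ c : ULift.{u + 1} (ZMod p), (EtCore.constAdj X).homEquiv _ _ ι c =
      c.down.val • (ULift.up 1 : ULift.{u + 1} Γ(X, ⊤)))
    (ι' : EtCoh.const Z (ZMod p) ⟶ EtCoh.Ga Z)
    (hι' : ∀ c : ULift.{u + 1} (ZMod p), (EtCore.constAdj Z).homEquiv _ _ ι' c =
      c.down.val • (ULift.up 1 : ULift.{u + 1} Γ(Z, ⊤))) :
    ι ≫ restrGa i = (EtCoh.pullPushAdj i).unit.app (EtCoh.const X (ZMod p)) ≫
      (EtCoh.push i).map ((EtCore.pullConst i (ZMod p)).hom ≫ ι') := by
  let A₀ := AddCommGrpCat.of (ULift.{u + 1} (ZMod p))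
  apply ((EtCore.constAdj X).homEquiv _ _).injective
  let η := (EtCoh.pullPushAdj i).homEquiv _ _ (EtCore.pullConst i (ZMod p)).hom
  have hu : (EtCore.constAdj X).homEquiv _ _ η ≫ (EtCore.pushGsecIso i).hom.app (EtCoh.const Z (ZMod p)) =
      (EtCore.constAdj Z).unit.app A₀ := by
    have hu' := Adjunction.homEquiv_leftAdjointUniq_hom_app
      (((EtCore.constAdj X).comp (EtCoh.pullPushAdj i)).ofNatIsoRight (EtCore.pushGsecIso i)) (EtCore.constAdj Z) A₀
    rw [Adjunction.homEquiv_ofNatIsoRight_apply, Adjunction.comp_homEquiv] at hu'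
    exact hu'
  have heq : (EtCoh.pullPushAdj i).unit.app (EtCoh.const X (ZMod p)) ≫
      (EtCoh.push i).map ((EtCore.pullConst i (ZMod p)).hom ≫ ι') = η ≫ (EtCoh.push i).map ι' := by
    rw [Functor.map_comp, ← Category.assoc]
    exact congrArg (· ≫ _) ((EtCoh.pullPushAdj i).homEquiv_unit _ _ _).symm
  have h1 : (EtCore.constAdj X).homEquiv _ _ ι ≫ (EtCore.gsec X).map (restrGa i) ≫
      (EtCore.pushGsecIso i).hom.app (EtCoh.Ga Z) = (EtCore.constAdj Z).homEquiv _ _ ι' := by
    refine ConcreteCategory.hom_ext _ _ fun c => ?_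
    rw [hι', ConcreteCategory.comp_apply, ConcreteCategory.comp_apply, hι, map_nsmul, map_nsmul]
    congr 1
    refine ULift.ext _ _ ?_
    change (EtCore.bcTopIso i).inv.left.appTop.hom ((pullback.fst (EtCoh.top X).hom i).appTop.hom 1) = 1
    rw [map_one, map_one]
  rw [heq, Adjunction.homEquiv_naturality_right, Adjunction.homEquiv_naturality_right,
    ← cancel_mono ((EtCore.pushGsecIso i).hom.app (EtCoh.Ga Z)), Category.assoc, h1, Category.assoc,
    Adjunction.homEquiv_unit]
  refine Eq.trans ?_ (congrArg (fun k => (EtCore.constAdj X).homEquiv _ _ η ≫ k)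
    ((EtCore.pushGsecIso i).hom.naturality ι')).symm
  rw [← hu, Category.assoc]

/-- Vanishing of constant coefficients above the bound of the structure sheaf plus one. -/
theorem subsingleton_H_const_qc (X : Scheme.{u}) (h0 : (p : Γ(X, ⊤)) = 0) (d : ℕ)
    (hO : ∀ n, d < n → Subsingleton (Coh.HH X (Coh.structureModule X) n)) (q : ℕ) (hq : d + 2 ≤ q) :
    Subsingleton (EtCoh.H X (EtCoh.const X (ZMod p)) q) := by
  obtain ⟨ι, -, w, hT⟩ := exists_iotaAS X p h0
  have hGa : ∀ n, d < n → Subsingleton (EtCoh.H X (EtCoh.Ga X) n) := fun n hn => by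
    obtain ⟨e, -⟩ := ASProp18.exists_equivariant X n
    haveI := hO n hn
    exact e.toEquiv.subsingleton
  obtain ⟨r, rfl⟩ : ∃ r, q = r + 1 := ⟨q - 1, by omega⟩
  exact subsingleton_H_X₁ hT r (hGa (r + 1) (by omega)) (hGa r (by omega))

/-- Extension by zero from the complement of a closed subscheme. -/
theorem subsingleton_H_extZero_qc {X T : Scheme.{u}} [CompactSpace T] (h0 : (p : Γ(X, ⊤)) = 0) (t : T ⟶ X)
    [IsOpenImmersion t] [Etale t] [EtShriek.JCont t] (d : ℕ)
    (hqc : ∀ M : X.Modules, Coh.IsQCoh M → ∀ n, d < n → Subsingleton (Coh.HH X M n)) (q : ℕ) (hq : d + 2 ≤ q) :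
    Subsingleton (EtCoh.H X ((EtShriek.extZero t).obj (EtCoh.const T (ZMod p))) q) := by
  let Zc : TopologicalSpace.Closeds X :=
    ⟨(Set.range t.base)ᶜ, t.isOpenEmbedding.isOpen_range.isClosed_compl⟩
  let I := Scheme.IdealSheafData.vanishingIdeal Zc
  let i := I.subschemeι
  have hr : Set.range i.base = (Set.range t.base)ᶜ := by
    rw [Scheme.IdealSheafData.range_subschemeι, Scheme.IdealSheafData.coe_support_vanishingIdeal]
    rfl
  obtain ⟨w, hS⟩ := GrothLib.ExtZero.shortExact_localization i t (by rw [hr, compl_compl])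
    (EtCoh.const X (ZMod p))
  have hO : (Coh.structureModule X).IsQuasicoherent :=
    Euler.isQuasicoherent_of_isFinLocFree (Euler.isFinLocFree_of_isInvertible Euler.isInvertible_structure)
  have hconst : ∀ n, d + 2 ≤ n → Subsingleton (EtCoh.H X (EtCoh.const X (ZMod p)) n) :=
    subsingleton_H_const_qc p X h0 d (hqc _ hO)
  obtain ⟨r, rfl⟩ : ∃ r, q = r + 1 := ⟨q - 1, by omega⟩
  refine subsingleton_H_of_iso ((EtShriek.extZero t).mapIso
    ((GrothLib.ExtZero.restrIsoPull t).app _ ≪≫ EtCore.pullConst t (ZMod p))) _ ?_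
  suffices hz : ∀ z : EtCoh.H X ((EtShriek.extZero t).obj ((EtShriek.restrAlong t).obj (EtCoh.const X (ZMod p)))) (r + 1),
      z = 0 from ⟨fun a b => (hz a).trans (hz b).symm⟩
  intro z
  obtain ⟨x, rfl⟩ := Ext.covariant_sequence_exact₁ _ hS z (@Subsingleton.elim _ (hconst _ (by omega)) _ _) rfl
  -- lift the class on the closed subscheme
  have h0' : (p : Γ(I.subscheme, ⊤)) = 0 := natCast_eq_zero_of_hom i h0
  obtain ⟨ι, hι, wX, hTX⟩ := exists_iotaAS X p h0
  obtain ⟨ι', hι', wZ, hTZ⟩ := exists_iotaAS I.subscheme p h0'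
  haveI := GrothLib.EtSite.preservesFiniteColimits_push i
  haveI : (EtCoh.push i).Additive := (EtCoh.pullPushAdj i).right_adjoint_additive
  haveI : PreservesFiniteLimits (EtCoh.push i) :=
    ((EtCoh.pullPushAdj i).rightAdjoint_preservesLimits : PreservesLimitsOfSize.{0, 0} _).preservesFiniteLimits
  let e := EtCore.pullConst i (ZMod p)
  have hTP := hTZ.map_of_exact (EtCoh.push i)
  let τ : ShortComplex.mk _ _ wX ⟶ (ShortComplex.mk _ _ wZ).map (EtCoh.push i) :=
    { τ₁ := (EtCoh.pullPushAdj i).unit.app _ ≫ (EtCoh.push i).map e.hom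
      τ₂ := restrGa i
      τ₃ := restrGa i
      comm₁₂ := by
        refine Eq.trans ?_ (iota_natural p i ι hι ι' hι').symm
        rw [Category.assoc]
        exact congrArg _ ((EtCoh.push i).map_comp _ _).symm
      comm₂₃ := (artinSchreier_comp_restrGa i p Fact.out h0 h0').symm }
  have hsurj : ∀ n, d ≤ n → ∀ v : EtCoh.H X ((EtCoh.push i).obj (EtCoh.Ga I.subscheme)) n,
      ∃ u : EtCoh.H X (EtCoh.Ga X) n, Ext.comp u (Ext.mk₀ (restrGa i)) (add_zero n) = v := fun n hn =>
    surjective_restrGa X I n (hqc _ (H1Sheaf6.isQuasicoherent_idealMod I) (n + 1) (by omega))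
  have hGaZ : Subsingleton (EtCoh.H X ((EtCoh.push i).obj (EtCoh.Ga I.subscheme)) r) := ⟨fun a b => by
    obtain ⟨eGa, -⟩ := ASProp18.exists_equivariant X r
    haveI := hqc _ hO r (by omega)
    haveI : Subsingleton (EtCoh.H X (EtCoh.Ga X) r) := eGa.toEquiv.subsingleton
    obtain ⟨a', rfl⟩ := hsurj r (by omega) a
    obtain ⟨b', rfl⟩ := hsurj r (by omega) b
    rw [Subsingleton.elim a' b']⟩
  obtain ⟨s, rfl⟩ : ∃ s, r = s + 1 := ⟨r - 1, by omega⟩
  let x' : EtCoh.H X ((EtCoh.push i).obj (EtCoh.const I.subscheme (ZMod p))) (s + 1) :=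
    Ext.comp x (Ext.mk₀ ((EtCoh.push i).map e.hom)) (add_zero (s + 1))
  obtain ⟨v, hv⟩ := Ext.covariant_sequence_exact₁ _ hTP x' (@Subsingleton.elim _ hGaZ _ _) rfl
  obtain ⟨v', hv'⟩ := hsurj s (by omega) v
  let u : EtCoh.H X (EtCoh.const X (ZMod p)) (s + 1) := Ext.comp v' hTX.extClass rfl
  have hx : x = Ext.comp u (Ext.mk₀ ((EtCoh.pullPushAdj i).unit.app _)) (add_zero (s + 1)) := by
    have h1 : x' = Ext.comp u (Ext.mk₀ τ.τ₁) (add_zero (s + 1)) := by
      rw [← hv, ← hv']
      exact (ASProp18.comp_extClass_natural hTX hTP τ s v').symm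
    haveI : IsIso ((EtCoh.push i).map e.hom) := inferInstance
    refine (GrothLib.EtDer.bijective_comp_mk₀ ((EtCoh.push i).mapIso e) (s + 1)).1 ?_
    change x' = _
    rw [h1, show τ.τ₁ = (EtCoh.pullPushAdj i).unit.app _ ≫ (EtCoh.push i).map e.hom from rfl, ← Ext.mk₀_comp_mk₀]
    exact (Ext.comp_assoc_of_third_deg_zero _ _ _ _).symm
  rw [hx, Ext.comp_assoc_of_second_deg_zero]
  change Ext.comp u ((Ext.mk₀ (ShortComplex.mk _ _ w).g).comp hS.extClass (zero_add 1)) _ = 0
  rw [hS.comp_extClass, Ext.comp_zero]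

/-- The key vanishing. -/
theorem key_qc {X : Scheme.{u}} [AlgebraicGeometry.IsNoetherian X] (h0 : (p : Γ(X, ⊤)) = 0) (d : ℕ)
    (hqc : ∀ M : X.Modules, Coh.IsQCoh M → ∀ n, d < n → Subsingleton (Coh.HH X M n)) (q : ℕ) (hq : d + 2 ≤ q) :
    Key p X q := by
  intro U T j _ _ _ a _
  haveI : QuasiCompact j := inferInstance
  haveI : QuasiCompact (a ≫ j) := inferInstance
  haveI : CompactSpace U := QuasiCompact.compactSpace_of_compactSpace j
  haveI : CompactSpace T := QuasiCompact.compactSpace_of_compactSpace (a ≫ j)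
  haveI : LocallyQuasiFinite (a ≫ j) := inferInstance
  haveI : LocallyOfFiniteType (a ≫ j) := inferInstance
  haveI : IsSeparated (a ≫ j) := inferInstance
  let h := (a ≫ j).fromNormalization
  let t := (a ≫ j).toNormalization
  have hth : t ≫ h = a ≫ j := (a ≫ j).toNormalization_fromNormalization
  let X' := (a ≫ j).normalization
  haveI : EtShriek.JCont t := GrothLib.Constructible.jcont t
  have hpre : h ⁻¹ᵁ j.opensRange = t.opensRange := preimage_opensRange_eq j a h t hth t.denseRange
  obtain ⟨e⟩ := GrothLib.ExtZero.nonempty_push_extZero h j t a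
    (IsOpenImmersion.isPullback a t j h hth hpre).flip (EtCoh.const T (ZMod p))
  refine subsingleton_H_of_iso e q (GrothLib.EtDer.subsingleton_H_push h _ q
    (subsingleton_H_extZero_qc p (natCast_eq_zero_of_hom h h0) t d (fun M hM n hn => ?_) q hq))
  obtain ⟨eM, -⟩ := FormalFn.exists_push_equiv h n
  haveI := hM
  haveI := hqc _ (QCoh.isQuasicoherent_pushforward h M) n hn
  exact (eM M hM).toEquiv.subsingleton

end GrothLib.CdP18
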