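import Groth.Agent.Lib.CdP18.Main
import Groth.Agent.Lib.CdP18.Open
import Groth.Agent.Lib.Nagata6.Noetherian
import Groth.Agent.Lib.DimFin29.Basic
import Groth.Agent.S0385
import Groth.Agent.S0642

/-!
# `cd_p ≤ dim` for separated schemes of finite type over separably closed fields of characteristic `p`
-/

set_option autoImplicit false
set_option backward.isDefEq.respectTransparency false
set_option backward.isDefEq.respectTransparency.types false
set_option linter.style.haveILetI false
set_option linter.all false
set_option maxHeartbeats 1000000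

universe u

open CategoryTheory CategoryTheory.Limits CategoryTheory.Abelian AlgebraicGeometry Opposite

noncomputable section

namespace GrothLib.CdP18

variable {k : Type u} [Field k] [IsSepClosed k] (p : ℕ) [Fact p.Prime] [CharP k p]

/-- Constant coefficients vanish above the dimension. -/
theorem subsingleton_H_const_sepClosed (X : Scheme.{u}) (f : X ⟶ Spec (CommRingCat.of k)) [IsSeparated f]
    [LocallyOfFiniteType f] [QuasiCompact f] (n : ℕ) (hn : topologicalKrullDim X ≤ n) (q : ℕ) (hq : n < q) :
    Subsingleton (EtCoh.H X (EtCoh.const X (ZMod p)) q) := by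
  obtain ⟨Y₀, j₀, p₀, hj₀, hqc₀, hp₀, hfac⟩ := Nagata6.exists_compactification_of_noetherian f
  haveI := hj₀
  haveI := hqc₀
  haveI := hp₀
  let Y := j₀.image
  let v : X ⟶ Y := j₀.toImage
  let g : Y ⟶ Spec (CommRingCat.of k) := j₀.imageι ≫ p₀
  haveI : IsOpenImmersion v := inferInstance
  haveI : IsProper g := inferInstance
  have hdim : topologicalKrullDim v.opensRange ≤ n := by
    refine le_trans (le_of_eq ?_) hn
    exact (IsHomeomorph.topologicalKrullDim_eq _ v.isoOpensRange.hom.homeomorph.isHomeomorph).symm
  have hY : topologicalKrullDim Y ≤ n := by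
    rw [← GrothLib.DimFin29.topologicalKrullDim_dense g (U := v.opensRange) v.denseRange]
    exact hdim
  haveI := subsingleton_H_open p g v.opensRange n hY q hq
  let i : X ⟶ v.opensRange.toScheme := v.isoOpensRange.hom
  haveI := GrothLib.EtSite.pull_preservesFiniteLimits i
  exact subsingleton_H_of_iso (EtCore.pullConst i (ZMod p)) q
    ((Groth.Agent.S0642.result i (EtCoh.const v.opensRange.toScheme (ZMod p)) q).2.subsingleton)

/-- The key vanishing. -/
theorem key_sepClosed {X : Scheme.{u}} (f : X ⟶ Spec (CommRingCat.of k)) [IsSeparated f]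
    [LocallyOfFiniteType f] [QuasiCompact f] (n : ℕ) (hn : topologicalKrullDim X ≤ n) (q : ℕ) (hq : n < q) :
    Key p X q := by
  intro U T j _ _ _ a _
  haveI : CompactSpace X := QuasiCompact.compactSpace_of_compactSpace f
  haveI : IsLocallyNoetherian X := LocallyOfFiniteType.isLocallyNoetherian f
  haveI : AlgebraicGeometry.IsNoetherian X := ⟨⟩
  haveI : QuasiCompact j := inferInstance
  haveI : QuasiCompact (a ≫ j) := inferInstance
  haveI : LocallyQuasiFinite (a ≫ j) := inferInstance
  haveI : LocallyOfFiniteType (a ≫ j) := inferInstance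
  haveI : IsSeparated (a ≫ j) := inferInstance
  obtain ⟨Y, t₀, π, ht₀, hqc, hπ, hfac⟩ := Groth.Agent.S0385.result (a ≫ j)
  haveI := ht₀
  haveI := hqc
  haveI := hπ
  let X' := t₀.image
  let h : X' ⟶ X := t₀.imageι ≫ π
  let t : T ⟶ X' := t₀.toImage
  have hth : t ≫ h = a ≫ j := by rw [← hfac, ← Category.assoc, Scheme.Hom.toImage_imageι]
  haveI : IsFinite h := inferInstance
  haveI : IsOpenImmersion t := inferInstance
  haveI : Etale t := inferInstance
  haveI : EtShriek.JCont t := GrothLib.Constructible.jcont t
  have hdense : DenseRange t.base := t.denseRange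
  haveI : CompactSpace U := QuasiCompact.compactSpace_of_compactSpace j
  haveI : CompactSpace T := QuasiCompact.compactSpace_of_compactSpace (a ≫ j)
  obtain ⟨e⟩ := GrothLib.ExtZero.nonempty_push_extZero h j t a
    (IsOpenImmersion.isPullback a t j h hth (preimage_opensRange_eq j a h t hth hdense)).flip
    (EtCoh.const T (ZMod p))
  refine subsingleton_H_of_iso e q (GrothLib.EtDer.subsingleton_H_push h _ q ?_)
  have hn' : topologicalKrullDim X' ≤ n :=
    (GrothLib.AlgSp.topologicalKrullDim_le_of_isIntegralHom h).trans hn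
  haveI : CompactSpace X' := QuasiCompact.compactSpace_of_compactSpace h
  haveI : QuasiSeparatedSpace X' := quasiSeparatedSpace_of_quasiSeparated h
  let g := h ≫ f
  let Zc : TopologicalSpace.Closeds X' :=
    ⟨(Set.range t.base)ᶜ, t.isOpenEmbedding.isOpen_range.isClosed_compl⟩
  let I := Scheme.IdealSheafData.vanishingIdeal Zc
  let i := I.subschemeι
  have hr : Set.range i.base = (Set.range t.base)ᶜ := by
    rw [Scheme.IdealSheafData.range_subschemeι, Scheme.IdealSheafData.coe_support_vanishingIdeal]
    rfl
  obtain ⟨w, hS⟩ := GrothLib.ExtZero.shortExact_localization i t (by rw [hr, compl_compl])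
    (EtCoh.const X' (ZMod p))
  obtain ⟨r, rfl⟩ : ∃ r, q = r + 1 := ⟨q - 1, by omega⟩
  refine subsingleton_H_of_iso ((EtShriek.extZero t).mapIso
    ((GrothLib.ExtZero.restrIsoPull t).app _ ≪≫ EtCore.pullConst t (ZMod p))) _
    (subsingleton_H_X₁ hS r (subsingleton_H_const_sepClosed p X' g n hn' _ hq) ?_)
  refine subsingleton_H_of_iso ((EtCoh.push i).mapIso (EtCore.pullConst i (ZMod p)).symm) _
    (GrothLib.EtDer.subsingleton_H_push i _ _ ?_)
  have hlt : topologicalKrullDim I.subscheme < n := by
    refine GrothLib.QDim18.krullDim_lt i.base i.isClosedEmbedding (fun x hx => ?_) n (lt_succ_of_le hn')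
    have hx' : x ∉ Set.range t.base := by rw [hr] at hx; exact hx
    obtain ⟨y, hy, hyx⟩ := GrothLib.ConstrCpt.exists_specializes
      ((isCompact_range t.continuous).isRetrocompact t.isOpenEmbedding.isOpen_range |>.isConstructible
        t.isOpenEmbedding.isOpen_range) (x := x) (hdense x)
    exact ⟨y, hyx, fun e => hx' (e ▸ hy)⟩
  rcases n with _ | n
  · haveI := GrothLib.QDim18.isEmpty_of_dim_lt_zero hlt
    exact subsingleton_H_of_isZero (GrothLib.QDim18.isZero_of_isEmpty _) r
  · exact subsingleton_H_const_sepClosed p _ (i ≫ g) n (le_of_lt_succ hlt) r (by omega)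

/-- `cd_p ≤ dim`. -/
theorem cohDimLEAt_sepClosed (X : Scheme.{u}) (f : X ⟶ Spec (CommRingCat.of k)) [IsSeparated f]
    [LocallyOfFiniteType f] [QuasiCompact f] (n : ℕ) (hn : topologicalKrullDim X ≤ n) :
    Dix.CohDimLEAt X p n := by
  haveI : CompactSpace X := QuasiCompact.compactSpace_of_compactSpace f
  haveI : IsLocallyNoetherian X := LocallyOfFiniteType.isLocallyNoetherian f
  haveI : AlgebraicGeometry.IsNoetherian X := ⟨⟩
  exact cohDimLEAt_of_key p n fun q hq => key_sepClosed p f n hn q hq

end GrothLib.CdP18
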